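import Cfsg.Agent.Lib.ThreeTrans.Classification.Sig
import Cfsg.Agent.Lib.ThreeTrans.RankThree
import Cfsg.Agent.Lib.Components.FStar

/-!
A class of 3-transpositions with disconnected commuting graph and trivial cores: the components of the
commuting graph lie in the fibres modulo the simple layer `L`; the group generated by one fibre and
the involutions of `L` coming from another fibre (owner: helper4).
-/

set_option autoImplicit false

namespace CfsgLib.ThreeTrans.Fischer.Disconnected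

open Cfsg RankThree
open scoped commutatorElement

set_option linter.unusedSectionVars false
set_option linter.style.haveILetI false
set_option linter.unusedVariables false

universe u

/-- An involution moving every member to a different member commuting with it. -/
def Swap {H : Type u} [Group H] (E : Set H) (v : H) : Prop :=
  v * v = 1 ∧ v ≠ 1 ∧ ∀ x ∈ E, v * x * v ≠ x ∧ Commute x (v * x * v)

theorem Swap.not_commute {H : Type u} [Group H] {E : Set H} {v x : H} (hv : Swap E v) (hx : x ∈ E) :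
    ¬ Commute v x := fun h => (hv.2.2 x hx).1 (by rw [h.eq, mul_assoc, hv.1, mul_one])

theorem Swap.conj {H : Type u} [Group H] {E : Set H} (hE : ∀ g : H, ∀ x ∈ E, g * x * g⁻¹ ∈ E) {v : H}
    (hv : Swap E v) (g : H) : Swap E (g * v * g⁻¹) := by
  refine ⟨?_, ?_, fun x hx => ?_⟩
  · rw [show g * v * g⁻¹ * (g * v * g⁻¹) = g * (v * v) * g⁻¹ by group, hv.1]; group
  · intro h
    exact hv.2.1 (conj_eq_one_iff.1 h)
  · have hx' := hE g⁻¹ x hx
    rw [inv_inv] at hx'
    obtain ⟨h1, h2⟩ := hv.2.2 _ hx'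
    have e : g * v * g⁻¹ * x * (g * v * g⁻¹) = g * (v * (g⁻¹ * x * g) * v) * g⁻¹ := by group
    refine ⟨fun h => h1 ?_, ?_⟩
    · rw [e] at h
      calc v * (g⁻¹ * x * g) * v = g⁻¹ * (g * (v * (g⁻¹ * x * g) * v) * g⁻¹) * g := by group
        _ = g⁻¹ * x * g := by rw [h]
    · have h3 := (commute_conj_iff (g := g)).2 h2
      rwa [show g * (g⁻¹ * x * g) * g⁻¹ = x by group, ← e] at h3

variable {G : Type u} [Group G] [Finite G] {D : Set G}

/-- The standing facts: a simple normal subgroup of index more than two without centralizer. -/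
structure Ctx (D : Set G) (L : Subgroup G) : Prop where
  cls : IsThreeTranspositionClass D
  normal : L.Normal
  qs : IsQuasisimple L
  cent : Subgroup.centralizer (L : Set G) = ⊥
  index : 2 < L.index

theorem exists_ctx (hD : IsThreeTranspositionClass D) (hZ : Subgroup.center G = ⊥) (h2 : pCore 2 G = ⊥)
    (h3 : pCore 3 G = ⊥) (hdisc : ¬ (commutingGraph D).Connected) :
    ∃ L : Subgroup G, Ctx D L ∧ generalizedFittingSubgroup G = L := by
  have hne : D.Nonempty := by
    obtain ⟨d, hd, -⟩ := hD.2.1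
    exact ⟨d, hd⟩
  have hD2 : ∃ a ∈ D, ∃ b ∈ D, a ≠ b := by
    obtain ⟨d, hd⟩ := hne
    by_contra h
    push Not at h
    have : d ∈ Subgroup.center G := central_of_commute_class hD fun x hx => by rw [← h d hd x hx]
    rw [hZ] at this
    exact ne_one hD.1 hd (Subgroup.mem_bot.1 this)
  obtain ⟨L, hLn, hL, hF, -⟩ := component_structure hD widthOne hD2 (by rw [h2]; exact bot_le) (by rw [h3]; exact bot_le)
  rw [hZ, sup_bot_eq] at hF
  have hfit : fittingSubgroup G ≤ Subgroup.center G :=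
    fitting_le_center hD (by rw [h2]; exact bot_le) (by rw [h3]; exact bot_le)
  have hC : Subgroup.centralizer (L : Set G) = ⊥ := by
    have hle : Subgroup.centralizer (L : Set G) ≤ L := by
      rw [← hF]; exact CfsgLib.Components.centralizer_gFitting_le
    have hcomm : ∀ a b : ↥(Subgroup.centralizer (L : Set G)), a * b = b * a := fun a b =>
      Subtype.ext (Subgroup.mem_centralizer_iff.1 b.2 a (hle a.2))
    rw [← le_bot_iff, ← hZ]
    exact le_trans (CfsgLib.Components.le_fitting (Subgroup.normal_centralizer) (isNilpotent_of_comm hcomm)) hfit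
  refine ⟨L, ⟨hD, hLn, hL, hC, ?_⟩, hF⟩
  by_contra hle
  push Not at hle
  have hprim := primitive_of_quasisimple hD hD2 hL hle hfit (by rw [hF, hZ, sup_bot_eq])
  obtain ⟨d, hd⟩ := hne
  obtain ⟨g, -, hgd, hc⟩ := exists_commute_in_orbit hD widthOne hL hd
  exact hdisc (connected_of_primitive (group_of_class hD) hprim
    ⟨d, hd, _, class_conj hD g d hd, Ne.symm hgd, hc⟩)

variable {L : Subgroup G}

/-- The fibre of `d` modulo `L`. -/
def fibre (D : Set G) (L : Subgroup G) (d : G) : Set G := {x | x ∈ D ∧ d * x ∈ L}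

/-- The subgroup generated by a fibre. -/
abbrev loc₂ (L : Subgroup G) (d : G) : Subgroup G := L ⊔ Subgroup.zpowers d

/-- The fibre in that subgroup. -/
def fibreIn (D : Set G) (L : Subgroup G) (d : G) : Set ↥(loc₂ L d) := {x | (x : G) ∈ fibre D L d}

namespace Ctx

variable (C : Ctx D L)
include C

theorem hS : IsThreeTranspositionSet D := C.cls.1

theorem conj_mem {l : G} (hl : l ∈ L) (g : G) : g * l * g⁻¹ ∈ L := C.normal.conj_mem l hl g

theorem conj_mem' {l : G} (hl : l ∈ L) (g : G) : g⁻¹ * l * g ∈ L := by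
  simpa using C.normal.conj_mem l hl g⁻¹

theorem d_notMem {d : G} (hd : d ∈ D) : d ∉ L := fun h => by
  have h1 : L = ⊤ := by
    rw [eq_top_iff, ← C.cls.2.2, Subgroup.closure_le]
    intro x hx
    obtain ⟨g, rfl⟩ := class_trans C.cls hd hx
    exact C.conj_mem h g
  have := C.index
  rw [h1, Subgroup.index_top] at this
  omega

theorem fibre_self {d : G} (hd : d ∈ D) : d ∈ fibre D L d := ⟨hd, by rw [mul_self C.hS hd]; exact one_mem L⟩

theorem fibre_comm {d x y : G} (hd : d ∈ D) (hx : x ∈ fibre D L d) (hy : y ∈ fibre D L d) : x * y ∈ L := by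
  have := L.mul_mem (inv_mem hx.2) hy.2
  rwa [mul_inv_rev, mul_assoc, inv_mul_cancel_left, inv_eq C.hS hx.1] at this

theorem mem_fibre_of_mul {d x y : G} (hx : x ∈ fibre D L d) (hy : y ∈ D) (h : x * y ∈ L) : y ∈ fibre D L d :=
  ⟨hy, by
    have := L.mul_mem hx.2 h
    rwa [mul_assoc, mul_self_assoc C.hS hx.1] at this⟩

theorem commute_mem {x y : G} (hx : x ∈ D) (hy : y ∈ D) (h : Commute x y) : x * y ∈ L :=
  haveI := C.normal
  mul_mem_of_sq_mem C.cls C.qs hx hy (by rw [(commute_iff_sq C.hS hx hy).1 h]; exact one_mem L)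

theorem not_commute {d x y : G} (hx : x ∈ fibre D L d) (hy : y ∈ D) (hyd : y ∉ fibre D L d) : ¬ Commute x y :=
  fun h => hyd (C.mem_fibre_of_mul hx hy (C.commute_mem hx.1 hy h))

theorem fibre_conj {d x : G} (hd : d ∈ D) (hx : x ∈ fibre D L d) {g : G} (hg : g ∈ loc₂ L d) :
    g * x * g⁻¹ ∈ fibre D L d := by
  haveI := C.normal
  refine ⟨class_conj C.cls g x hx.1, ?_⟩
  let π := QuotientGroup.mk' L
  have hd2 : π d * π d = 1 := by rw [← map_mul, mul_self C.hS hd, map_one]
  have h : π g = 1 ∨ π g = π d := by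
    obtain ⟨l, hl, z, hz, rfl⟩ := Subgroup.mem_sup_of_normal_left.1 hg
    rw [map_mul, show π l = 1 from (QuotientGroup.eq_one_iff l).2 hl, one_mul]
    obtain ⟨i, rfl⟩ := Subgroup.mem_zpowers_iff.1 hz
    rcases Int.even_or_odd i with ⟨j, rfl⟩ | ⟨j, rfl⟩
    · left
      rw [zpow_add, ← (Commute.refl d).mul_zpow, mul_self C.hS hd, one_zpow, map_one]
    · right
      rw [zpow_add_one, two_mul, zpow_add, ← (Commute.refl d).mul_zpow, mul_self C.hS hd, one_zpow, one_mul]
  have hx' : π x = π d := by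
    have h1 : π (d * x) = 1 := (QuotientGroup.eq_one_iff _).2 hx.2
    rw [map_mul] at h1
    rw [eq_inv_of_mul_eq_one_right h1, inv_eq_of_mul_eq_one_right hd2]
  refine (QuotientGroup.eq_one_iff (N := L) _).1 ?_
  show π (d * (g * x * g⁻¹)) = 1
  rw [map_mul, map_mul, map_mul, map_inv, hx']
  rcases h with h | h <;> rw [h] <;> simp [hd2]

theorem le_loc₂ {d x : G} (hd : d ∈ D) (hx : x ∈ fibre D L d) : x ∈ loc₂ L d := by
  have h : x = d * (d * x) := (mul_self_assoc C.hS hd x).symm
  rw [h]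
  exact mul_mem (Subgroup.mem_sup_right (Subgroup.mem_zpowers d)) (Subgroup.mem_sup_left hx.2)

/-- The fibre is one orbit of `L`. -/
theorem exists_conj_eq {d x : G} (hd : d ∈ D) (hx : x ∈ fibre D L d) : ∃ g ∈ L, g * d * g⁻¹ = x := by
  haveI := C.normal
  obtain ⟨g, hg, hn⟩ := exists_not_commute_conj C.cls C.qs hx.1 hd
  have hc : g * d * g⁻¹ ∈ fibre D L d := C.fibre_conj hd (C.fibre_self hd) (Subgroup.mem_sup_left hg)
  set c := g * d * g⁻¹ with hcdef
  refine ⟨c * x * g, mul_mem (C.fibre_comm hd hc hx) hg, ?_⟩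
  rw [show c * x * g * d * (c * x * g)⁻¹ = (c * x) * c * (c * x)⁻¹ by rw [hcdef]; group,
    mul_inv_rev, inv_eq C.hS hx.1, inv_eq C.hS hc.1]
  calc c * x * c * (x * c) = (c * x * c) * x * c := by group
    _ = (x * c * x) * x * c := by rw [braid C.hS hx.1 hc.1 hn]
    _ = x := by rw [mul_assoc (x * c) x x, mul_self C.hS hx.1, mul_one, mul_assoc, mul_self C.hS hc.1, mul_one]

/-- Another fibre exists. -/
theorem exists_other {d : G} (hd : d ∈ D) : ∃ y ∈ D, y ∉ fibre D L d := by
  haveI := C.normal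
  by_contra h
  push Not at h
  have := index_le_two_of_sup (L := L) (mul_self C.hS hd)
    (sup_zpowers_eq_top C.cls fun x hx => (h x hx).2)
  have := C.index
  omega

/-! ### The group of one fibre -/

omit C in
theorem coe_fibreIn_iff {d : G} {x : ↥(loc₂ L d)} : x ∈ fibreIn D L d ↔ (x : G) ∈ fibre D L d := Iff.rfl

theorem center_eq_bot (d : G) : Subgroup.center ↥(loc₂ L d) = ⊥ := by
  rw [eq_bot_iff]
  intro z hz
  have : (z : G) ∈ Subgroup.centralizer (L : Set G) := Subgroup.mem_centralizer_iff.2 fun l hl =>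
    congrArg Subtype.val (Subgroup.mem_center_iff.1 hz ⟨l, Subgroup.mem_sup_left hl⟩)
  rw [C.cent] at this
  exact Subgroup.mem_bot.2 (Subtype.ext (Subgroup.mem_bot.1 this))

theorem normal_subgroupOf (d : G) : (L.subgroupOf (loc₂ L d)).Normal :=
  haveI := C.normal
  Subgroup.normal_subgroupOf

theorem eq_bot_of_inf {d : G} {N : Subgroup ↥(loc₂ L d)} [N.Normal] (h : N ⊓ L.subgroupOf (loc₂ L d) = ⊥) :
    N = ⊥ := by
  haveI := C.normal_subgroupOf d
  rw [eq_bot_iff]
  intro z hz
  have : (z : G) ∈ Subgroup.centralizer (L : Set G) := by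
    refine Subgroup.mem_centralizer_iff.2 fun l hl => ?_
    have := Subgroup.commute_of_normal_of_disjoint N (L.subgroupOf (loc₂ L d)) inferInstance inferInstance
      (disjoint_iff.2 h) z ⟨l, Subgroup.mem_sup_left hl⟩ hz hl
    exact (congrArg Subtype.val this.eq).symm
  rw [C.cent] at this
  exact Subgroup.mem_bot.2 (Subtype.ext (Subgroup.mem_bot.1 this))

theorem simple : IsSimpleGroup L := by
  have hZ : Subgroup.center L = ⊥ := by
    rw [eq_bot_iff]
    intro z hz
    have : (z : G) ∈ Subgroup.centralizer (L : Set G) := Subgroup.mem_centralizer_iff.2 fun l hl =>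
      congrArg Subtype.val (Subgroup.mem_center_iff.1 hz ⟨l, hl⟩)
    rw [C.cent] at this
    exact Subgroup.mem_bot.2 (Subtype.ext (Subgroup.mem_bot.1 this))
  haveI := C.qs.2
  haveI : Nontrivial L := by
    by_contra hn
    rw [not_nontrivial_iff_subsingleton] at hn
    exact CfsgLib.Components.IsQuasisimple.not_isMulCommutative C.qs ⟨⟨fun _ _ => Subsingleton.elim _ _⟩⟩
  exact IsSimpleGroup.isSimpleGroup_of_surjective
    ((QuotientGroup.quotientMulEquivOfEq hZ).trans QuotientGroup.quotientBot).toMonoidHom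
    (MulEquiv.surjective _)

/-- A normal subgroup of the group of one fibre is trivial or contains `L`. -/
theorem normal_cases {d : G} (N : Subgroup ↥(loc₂ L d)) [N.Normal] :
    N = ⊥ ∨ L.subgroupOf (loc₂ L d) ≤ N := by
  haveI := C.simple
  let ι : ↥L →* ↥(loc₂ L d) := Subgroup.inclusion le_sup_left
  rcases IsSimpleGroup.eq_bot_or_eq_top_of_normal (N.comap ι) inferInstance with h | h
  · refine Or.inl (C.eq_bot_of_inf (eq_bot_iff.2 fun z hz => ?_))
    obtain ⟨hz1, hz2⟩ := hz
    have : (⟨(z : G), hz2⟩ : L) ∈ N.comap ι := hz1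
    rw [h, Subgroup.mem_bot] at this
    have h' := congrArg Subtype.val this
    exact Subgroup.mem_bot.2 (Subtype.ext h')
  · refine Or.inr fun z hz => ?_
    exact (h ▸ Subgroup.mem_top (⟨(z : G), hz⟩ : L) : (⟨(z : G), hz⟩ : L) ∈ N.comap ι)

theorem index_le {d : G} (hd : d ∈ D) : (L.subgroupOf (loc₂ L d)).index ≤ 2 := by
  haveI := C.normal_subgroupOf d
  refine index_le_two_of_sup (d := ⟨d, Subgroup.mem_sup_right (Subgroup.mem_zpowers d)⟩)
    (Subtype.ext (mul_self C.hS hd)) ?_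
  rw [eq_top_iff]
  rintro ⟨g, hg⟩ -
  haveI := C.normal
  obtain ⟨l, hl, z, hz, rfl⟩ := Subgroup.mem_sup_of_normal_left.1 hg
  obtain ⟨i, rfl⟩ := Subgroup.mem_zpowers_iff.1 hz
  refine Subgroup.mem_sup_of_normal_left.2 ⟨⟨l, Subgroup.mem_sup_left hl⟩, Subgroup.mem_subgroupOf.2 hl,
    (⟨d, Subgroup.mem_sup_right (Subgroup.mem_zpowers d)⟩ : ↥(loc₂ L d)) ^ i, Subgroup.mem_zpowers_iff.2 ⟨i, rfl⟩, ?_⟩
  exact Subtype.ext (by simp)

theorem setting {d : G} (hd : d ∈ D) : Setting (fibreIn D L d) := by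
  haveI := C.normal
  haveI := C.normal_subgroupOf d
  haveI := C.simple
  have hE : ∀ {x : G} (hx : x ∈ fibre D L d),
      (⟨x, C.le_loc₂ hd hx⟩ : ↥(loc₂ L d)) ∈ fibreIn D L d := fun hx => hx
  have hconj : ∀ (g : ↥(loc₂ L d)) x, x ∈ fibreIn D L d → g * x * g⁻¹ ∈ fibreIn D L d :=
    fun g x hx => C.fibre_conj hd hx g.2
  set ld : ↥(loc₂ L d) := ⟨d, C.le_loc₂ hd (C.fibre_self hd)⟩
  have hld : ld ∈ fibreIn D L d := C.fibre_self hd
  have hS' : IsThreeTranspositionSet (fibreIn D L d) := by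
    refine ⟨fun x hx => ?_, fun x hx y hy => ?_⟩
    · rw [← Subgroup.orderOf_coe]; exact C.hS.1 x hx.1
    · rcases C.hS.2 x hx.1 y hy.1 with h | h
      exacts [Or.inl (Subtype.ext (by simpa using h)), Or.inr (Subtype.ext (by simpa using h))]
  have hclass : ∀ x ∈ fibreIn D L d, ∃ g : ↥(loc₂ L d), g * ld * g⁻¹ = x := fun x hx => by
    obtain ⟨g, hg, e⟩ := C.exists_conj_eq hd hx
    exact ⟨⟨g, Subgroup.mem_sup_left hg⟩, Subtype.ext e⟩
  have hgen : Subgroup.closure (fibreIn D L d) = ⊤ := by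
    set K := Subgroup.closure (fibreIn D L d)
    haveI : K.Normal := by
      refine ⟨fun n hn g => ?_⟩
      have hle : K.map (MulAut.conj g).toMonoidHom ≤ K := by
        rw [MonoidHom.map_closure, Subgroup.closure_le]
        rintro _ ⟨x, hx, rfl⟩
        exact Subgroup.subset_closure (hconj g x hx)
      exact hle ⟨n, hn, rfl⟩
    rcases C.normal_cases K with h | h
    · exfalso
      have := Subgroup.subset_closure (k := fibreIn D L d) hld
      rw [SetLike.mem_coe, ← show K = Subgroup.closure _ from rfl, h, Subgroup.mem_bot] at this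
      exact ne_one C.hS hd (congrArg Subtype.val this)
    · rw [eq_top_iff]
      rintro ⟨g, hg⟩ -
      obtain ⟨l, hl, z, hz, rfl⟩ := Subgroup.mem_sup_of_normal_left.1 hg
      have h1 : (⟨l, Subgroup.mem_sup_left hl⟩ : ↥(loc₂ L d)) ∈ K := h hl
      obtain ⟨i, rfl⟩ := Subgroup.mem_zpowers_iff.1 hz
      convert mul_mem h1 (zpow_mem (Subgroup.subset_closure hld : ld ∈ K) i) using 1
      exact Subtype.ext (by simp [ld])
  obtain ⟨g, hg, hgd, hcg⟩ := exists_commute_in_orbit C.cls widthOne C.qs hd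
  have hgD : g * d * g⁻¹ ∈ fibre D L d := C.fibre_conj hd (C.fibre_self hd) (Subgroup.mem_sup_left hg)
  have hwidth : ∃ a ∈ fibreIn D L d, ∃ b ∈ fibreIn D L d, a ≠ b ∧ Commute a b :=
    ⟨ld, hld, _, hE hgD, fun e => hgd (congrArg Subtype.val e).symm, Subtype.ext hcg.eq⟩
  obtain ⟨a, ha, b, hb, hab, -⟩ := hwidth
  have hD2 : ∃ a ∈ fibreIn D L d, ∃ b ∈ fibreIn D L d, a ≠ b := ⟨a, ha, b, hb, hab⟩
  have hcls : IsThreeTranspositionClass (fibreIn D L d) :=
    ⟨hS', ⟨ld, hld, Set.ext fun x => ⟨fun hx => isConj_iff.2 (hclass x hx), fun hx => by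
      obtain ⟨g, rfl⟩ := isConj_iff.1 hx
      exact hconj g ld hld⟩⟩, hgen⟩
  have hqs : IsQuasisimple (L.subgroupOf (loc₂ L d)) :=
    (CfsgLib.Components.isQuasisimple_congr (Subgroup.subgroupOfEquivOfLe le_sup_left)).2 C.qs
  have hcore : ∀ p : ℕ, p.Prime → pCore p ↥(loc₂ L d) = ⊥ := by
    intro p hp
    haveI := Fact.mk hp
    haveI : (pCore p ↥(loc₂ L d)).Normal := CfsgLib.Components.pCore_normal p
    refine (C.normal_cases _).resolve_right fun h => ?_
    apply CfsgLib.Components.IsQuasisimple.not_isSolvable hqs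
    haveI := (((CfsgLib.Core.isPGroup_pCore p ↥(loc₂ L d)).to_le h).isNilpotent :
      Group.IsNilpotent ↥(L.subgroupOf (loc₂ L d)))
    infer_instance
  have hfit : fittingSubgroup ↥(loc₂ L d) ≤ Subgroup.center ↥(loc₂ L d) :=
    fitting_le_center hcls (by rw [hcore 2 Nat.prime_two]; exact bot_le)
      (by rw [hcore 3 Nat.prime_three]; exact bot_le)
  exact ⟨hcls, hD2, ⟨ld, hld, _, hE hgD, fun e => hgd (congrArg Subtype.val e).symm, Subtype.ext hcg.eq⟩,
    primitive_of_quasisimple hcls hD2 hqs (C.index_le hd) hfit (gFitting_eq hcls hqs (C.index_le hd) hfit),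
    by rw [hcore 2 Nat.prime_two]; exact bot_le⟩

theorem commutator_loc₂ {d : G} (hd : d ∈ D) : commutator ↥(loc₂ L d) = L.subgroupOf (loc₂ L d) := by
  haveI := C.normal_subgroupOf d
  refine le_antisymm (commutator_le_of_index_le_two (C.index_le hd)) ?_
  refine (C.normal_cases _).resolve_left fun h => ?_
  have hS := C.setting hd
  obtain ⟨a, ha, hab⟩ := hS.nontriv
  obtain ⟨z, hz, hn⟩ := exists_not_commute hS.cls hS.nontriv ha
  refine hn ?_
  have : ⁅a, z⁆ ∈ commutator ↥(loc₂ L d) := by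
    rw [commutator_def]; exact Subgroup.commutator_mem_commutator (Subgroup.mem_top a) (Subgroup.mem_top z)
  rw [h, Subgroup.mem_bot] at this
  exact commutatorElement_eq_one_iff_commute.1 this

/-- The layer is the derived group of the group of one fibre. -/
theorem nonempty_equiv {d : G} (hd : d ∈ D) : Nonempty (↥L ≃* ↥(commutator ↥(loc₂ L d))) := by
  rw [C.commutator_loc₂ hd]
  exact ⟨(Subgroup.subgroupOfEquivOfLe le_sup_left).symm⟩

/-! ### Products of commuting pairs of a fibre -/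

omit C in
/-- The products of two different commuting members of the fibre of `y`. -/
def prods (D : Set G) (L : Subgroup G) (y : G) : Set G :=
  (fun p : G × G => p.1 * p.2) '' {p | p.1 ∈ fibre D L y ∧ p.2 ∈ fibre D L y ∧ p.1 ≠ p.2 ∧ Commute p.1 p.2}

theorem prods_moves {y p q x : G} (hy : y ∈ D) (hp : p ∈ fibre D L y) (hq : q ∈ fibre D L y) (hne : p ≠ q)
    (hpq : Commute p q) (hx : x ∈ D) (hxy : x ∉ fibre D L y) :
    p * q * x * (p * q) ≠ x ∧ Commute x (p * q * x * (p * q)) := by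
  have hxp := C.not_commute hp hx hxy
  have hxq := C.not_commute hq hx hxy
  have bp := braid C.hS hp.1 hx hxp
  have bq := braid C.hS hq.1 hx hxq
  have e : p * q * x * (p * q) = p * (q * x * q) * p := by
    rw [show p * q * x * (p * q) = p * q * x * (q * p) by rw [hpq.eq]]; group
  rw [e]
  refine ⟨fun h => hne ?_, ?_⟩
  · have h1 : q * x * q = p * x * p := by
      have := congrArg (fun t => p * t * p) h
      simp only [mul_assoc, mul_self_assoc C.hS hp.1, mul_self C.hS hp.1, mul_one] at this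
      simpa [mul_assoc] using this
    rw [bp, bq] at h1
    exact (mul_left_cancel (mul_right_cancel h1)).symm
  · have h1 : Commute (p * x * p) (q * x * q) := by
      rw [bp, bq]
      have := (commute_conj_iff (g := x)).2 hpq
      rwa [inv_eq C.hS hx] at this
    have h2 := (commute_conj_iff (g := p)).2 h1
    rw [inv_eq C.hS hp.1] at h2
    rwa [show p * (p * x * p) * p = x by
      simp only [mul_assoc, mul_self_assoc C.hS hp.1, mul_self C.hS hp.1, mul_one]] at h2

theorem prods_swap {d y v : G} (hd : d ∈ D) (hy : y ∈ D) (hyd : y ∉ fibre D L d) (hv : v ∈ prods D L y) :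
    ∃ h : v ∈ loc₂ L d, Swap (fibreIn D L d) ⟨v, h⟩ := by
  obtain ⟨⟨p, q⟩, ⟨hp, hq, hne, hpq⟩, rfl⟩ := hv
  refine ⟨Subgroup.mem_sup_left (C.fibre_comm hy hp hq), Subtype.ext ?_, fun h => hne ?_, fun x hx => ?_⟩
  · show p * q * (p * q) = 1
    rw [← pow_two]; exact (commute_iff_sq C.hS hp.1 hq.1).1 hpq
  · have h' : p * q = 1 := congrArg Subtype.val h
    rw [eq_inv_of_mul_eq_one_left h', inv_eq C.hS hq.1]
  · have hxy : (x : G) ∉ fibre D L y := fun h => hyd (C.mem_fibre_of_mul hx hy (by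
      have := inv_mem h.2
      rwa [mul_inv_rev, inv_eq C.hS hy, inv_eq C.hS h.1] at this))
    obtain ⟨h1, h2⟩ := C.prods_moves hy hp hq hne hpq hx.1 hxy
    exact ⟨fun e => h1 (congrArg Subtype.val e), Subtype.ext h2.eq⟩

theorem prods_fix {y v : G} (hy : y ∈ D) (hv : v ∈ prods D L y) : ∃ p ∈ fibre D L y, v * p * v = p := by
  obtain ⟨⟨p, q⟩, ⟨hp, hq, -, hpq⟩, rfl⟩ := hv
  refine ⟨p, hp, ?_⟩
  show p * q * p * (p * q) = p
  rw [show p * q * p * (p * q) = p * q * (p * p) * q by group, mul_self C.hS hp.1, mul_one, mul_assoc,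
    mul_self C.hS hq.1, mul_one]

theorem prods_disjoint {y z v : G} (hy : y ∈ D) (hz : z ∈ D) (hyz : z ∉ fibre D L y) (h1 : v ∈ prods D L y)
    (h2 : v ∈ prods D L z) : False := by
  obtain ⟨p, hp, he⟩ := C.prods_fix hy h1
  obtain ⟨⟨r, s⟩, ⟨hr, hs, hne, hrs⟩, rfl⟩ := h2
  have hpz : p ∉ fibre D L z := fun h => hyz (C.mem_fibre_of_mul hp hz (by
    have := inv_mem h.2
    rwa [mul_inv_rev, inv_eq C.hS hz, inv_eq C.hS h.1] at this))
  exact (C.prods_moves hz hr hs hne hrs hp.1 hpz).1 he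

theorem prods_map {y : G} (hy : y ∈ D) (g : G) :
    (fun t => g * t * g⁻¹) '' prods D L y = prods D L (g * y * g⁻¹) := by
  have key : ∀ (g y p : G), p ∈ fibre D L y → g * p * g⁻¹ ∈ fibre D L (g * y * g⁻¹) := by
    rintro g y p ⟨hp, hm⟩
    refine ⟨class_conj C.cls g p hp, ?_⟩
    have := C.conj_mem hm g
    rwa [show g * (y * p) * g⁻¹ = g * y * g⁻¹ * (g * p * g⁻¹) by group] at this
  apply Set.eq_of_subset_of_subset
  · rintro _ ⟨_, ⟨⟨p, q⟩, ⟨hp, hq, hne, hpq⟩, rfl⟩, rfl⟩
    exact ⟨⟨g * p * g⁻¹, g * q * g⁻¹⟩, ⟨key g y p hp, key g y q hq,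
      fun e => hne (mul_left_cancel (mul_right_cancel e)), commute_conj_iff.2 hpq⟩, by group⟩
  · rintro _ ⟨⟨p, q⟩, ⟨hp, hq, hne, hpq⟩, rfl⟩
    have hback : g⁻¹ * (g * y * g⁻¹) * g⁻¹⁻¹ = y := by group
    have hp' := key g⁻¹ _ p hp
    have hq' := key g⁻¹ _ q hq
    rw [hback] at hp' hq'
    exact ⟨g⁻¹ * p * g * (g⁻¹ * q * g), ⟨⟨_, _⟩, ⟨by simpa using hp', by simpa using hq',
      fun e => hne (mul_left_cancel (mul_right_cancel e)), by
        have := (commute_conj_iff (g := g⁻¹)).2 hpq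
        simpa using this⟩, rfl⟩, by group⟩

end Ctx

end CfsgLib.ThreeTrans.Fischer.Disconnected
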