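import Cfsg.Agent.Lib.Classical.Quad.Eichler
import Mathlib.Algebra.Field.ZMod

/-!
Involutions of a quadratic space over the field with two elements moving every non-singular vector to
an orthogonal one: an adapted hyperbolic basis, conjugacy, and a bound from below for their number
(owner: helper4).
-/

set_option autoImplicit false
set_option linter.unusedSectionVars false
set_option linter.style.haveILetI false

namespace CfsgLib.ThreeTrans.Fischer.Disconnected.Two

open CfsgLib.Classical.Quad
open QuadraticMap (polar polarBilin)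
open scoped Matrix

universe v

theorem self_add : ∀ t : ZMod 2, t + t = 0 := by decide

theorem eq_one_of_ne_zero : ∀ t : ZMod 2, t ≠ 0 → t = 1 := by decide

theorem two_zero : (2 : ZMod 2) = 0 := by decide

theorem mul_self_two : ∀ t : ZMod 2, t * t = t := by decide

variable [Fact (Nat.Prime 2)] {W : Type v} [AddCommGroup W] [Module (ZMod 2) W] [FiniteDimensional (ZMod 2) W]
  {Q : QuadraticForm (ZMod 2) W}

theorem add_self_vec (x : W) : x + x = 0 := by
  rw [← two_smul (ZMod 2) x, two_zero, zero_smul]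

theorem add_add_self (x y : W) : x + (x + y) = y := by rw [← add_assoc, add_self_vec, zero_add]

theorem polar_self_zero (x : W) : polar Q x x = 0 := by rw [polar_self', two_zero, zero_mul]

/-- The action of an isometry. -/
abbrev ap (g : OQ Q) (x : W) : W := (g : W ≃ₗ[ZMod 2] W) x

/-- An involution moving every non-singular vector to an orthogonal one. -/
def Tot (g : OQ Q) : Prop :=
  (∀ x, ap g (ap g x) = x) ∧ ∀ a, Q a ≠ 0 → ap g a ≠ a ∧ polar Q a (ap g a) = 0

/-- The difference with the identity. -/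
abbrev nn (g : OQ Q) (x : W) : W := ap g x + x

theorem nn_add (g : OQ Q) (x y : W) : nn g (x + y) = nn g x + nn g y := by
  show (g : W ≃ₗ[ZMod 2] W) (x + y) + (x + y) = _
  rw [map_add]
  show _ = (g : W ≃ₗ[ZMod 2] W) x + x + ((g : W ≃ₗ[ZMod 2] W) y + y)
  abel

theorem nn_smul (g : OQ Q) (t : ZMod 2) (x : W) : nn g (t • x) = t • nn g x := by
  show (g : W ≃ₗ[ZMod 2] W) (t • x) + t • x = _
  rw [map_smul, smul_add]

theorem nn_nn {g : OQ Q} (hg : Tot g) (x : W) : nn g (nn g x) = 0 := by
  rw [nn_add]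
  show ap g (ap g x) + ap g x + (ap g x + x) = 0
  rw [hg.1, ← add_assoc, add_assoc x, add_self_vec, add_zero, add_self_vec]

theorem polar_nn {g : OQ Q} (hg : Tot g) (x y : W) : polar Q (nn g x) y = polar Q x (nn g y) := by
  have h : polar Q (ap g x) y = polar Q x (ap g y) := by
    rw [← OQ.map_polar g (ap g x) y, show (g : W ≃ₗ[ZMod 2] W) (ap g x) = x from hg.1 x]
  rw [polar_add_left', polar_add_right', h]

theorem nn_fixed_singular {g : OQ Q} (hg : Tot g) {x : W} (h : nn g x = 0) : Q x = 0 := by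
  by_contra hx
  refine (hg.2 x hx).1 ?_
  calc ap g x = nn g x + x := by show _ = ap g x + x + x; rw [add_assoc, add_self_vec, add_zero]
    _ = x := by rw [h, zero_add]

variable (hQ : (polarBilin Q).Nondegenerate) (hn : 3 ≤ Module.finrank (ZMod 2) W)

include hQ hn in
theorem exists_nonsingular_perp' (x : W) : ∃ a, Q a ≠ 0 ∧ polar Q x a = 0 := by
  by_contra hall
  push Not at hall
  have hs : ∀ a, polar Q x a = 0 → Q a = 0 := fun a ha => by
    by_contra h; exact hall a h ha
  by_cases hx : ∀ w, polar Q x w = 0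
  · obtain ⟨z, hz⟩ : ∃ z, Q z ≠ 0 := by
      by_contra hq
      push Not at hq
      obtain ⟨b⟩ : Nonempty (Fin (Module.finrank (ZMod 2) W)) := ⟨⟨0, by omega⟩⟩
      refine (Module.finBasis (ZMod 2) W).ne_zero b (eq_zero_of_polar hQ fun w => ?_)
      simp [polar, hq]
    exact hall z hz (hx z)
  push Not at hx
  obtain ⟨y, hy⟩ := hx
  have hy1 := eq_one_of_ne_zero _ hy
  let f : W →ₗ[ZMod 2] (Fin 2 → ZMod 2) := LinearMap.pi ![polarBilin Q x, (polarBilin Q).flip y]
  have hker : LinearMap.ker f ≠ ⊥ := LinearMap.ker_ne_bot_of_finrank_lt (by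
    rw [Module.finrank_pi, Fintype.card_fin]; omega)
  obtain ⟨z, hz, hz0⟩ := Submodule.exists_mem_ne_zero_of_ne_bot hker
  have hz1 : polar Q x z = 0 := congrFun (LinearMap.mem_ker.1 hz) 0
  have hz2 : polar Q z y = 0 := congrFun (LinearMap.mem_ker.1 hz) 1
  refine hz0 (eq_zero_of_polar hQ fun w => ?_)
  set w' := w + polar Q x w • y
  have hw' : polar Q x w' = 0 := by rw [polar_add_right', polar_smul_right', hy1, mul_one, self_add]
  have hsum := hs (z + w') (by rw [polar_add_right', hz1, hw', add_zero])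
  rw [apply_add, hs z hz1, hs w' hw', zero_add, zero_add, polar_add_right', polar_smul_right', hz2, mul_zero,
    add_zero] at hsum
  exact hsum

include hQ hn in
theorem polar_diag {g : OQ Q} (hg : Tot g) (x : W) : polar Q x (nn g x) = 0 := by
  have hns : ∀ a, Q a ≠ 0 → polar Q a (nn g a) = 0 := fun a ha => by
    rw [polar_add_right', (hg.2 a ha).2, polar_self_zero, add_zero]
  by_cases hx : Q x = 0
  · obtain ⟨a, ha, hxa⟩ := exists_nonsingular_perp' hQ hn x
    have hxa' : Q (x + a) ≠ 0 := by rwa [apply_add, hx, hxa, zero_add, add_zero]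
    have h1 := hns _ hxa'
    rw [nn_add, polar_add_left', polar_add_right' x (nn g x), polar_add_right' a (nn g x), hns a ha, ← polar_nn hg a x,
      QuadraticMap.polar_comm (⇑Q) (nn g a) x, add_zero, add_assoc, self_add, add_zero] at h1
    exact h1
  · exact hns x hx

include hQ hn in
theorem norm_nn {g : OQ Q} (hg : Tot g) (x : W) : Q (nn g x) = 0 := by
  have h := polar_diag hQ hn hg x
  rw [polar_add_right', polar_self_zero, add_zero] at h
  rw [apply_add, OQ.map_apply, QuadraticMap.polar_comm, h, add_zero, self_add]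

theorem polar_nn_nn {g : OQ Q} (hg : Tot g) (x y : W) : polar Q (nn g x) (nn g y) = 0 := by
  rw [polar_nn hg, nn_nn hg, QuadraticMap.polar_zero_right]

/-! ### Hyperbolic families -/

/-- Dual totally singular families. -/
structure HypFam {κ : Type*} [DecidableEq κ] (Q : QuadraticForm (ZMod 2) W) (e f : κ → W) : Prop where
  e_norm : ∀ s, Q (e s) = 0
  f_norm : ∀ s, Q (f s) = 0
  ee : ∀ s t, polar Q (e s) (e t) = 0
  ff : ∀ s t, polar Q (f s) (f t) = 0
  ef : ∀ s t, polar Q (e s) (f t) = if s = t then 1 else 0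

section Hyp

variable {κ : Type*} [Fintype κ] [DecidableEq κ] {e f : κ → W}

/-- The vector with given coordinates. -/
def vec (e f : κ → W) (a b : κ → ZMod 2) : W := ∑ s, a s • e s + ∑ s, b s • f s

theorem HypFam.polar_e (h : HypFam Q e f) (a b : κ → ZMod 2) (t : κ) : polar Q (vec e f a b) (e t) = b t := by
  show polarBilin Q (∑ s, a s • e s + ∑ s, b s • f s) (e t) = b t
  simp only [map_add, map_sum, map_smul, LinearMap.add_apply, LinearMap.coe_sum, Finset.sum_apply,
    LinearMap.smul_apply, QuadraticMap.polarBilin_apply_apply, h.ee, smul_eq_mul, mul_zero, Finset.sum_const_zero,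
    zero_add, fun s => show polar Q (f s) (e t) = if t = s then 1 else 0 from
      (QuadraticMap.polar_comm _ _ _).trans (h.ef t s), mul_ite, mul_one, Finset.sum_ite_eq, Finset.mem_univ, if_true]

theorem HypFam.polar_f (h : HypFam Q e f) (a b : κ → ZMod 2) (t : κ) : polar Q (vec e f a b) (f t) = a t := by
  show polarBilin Q (∑ s, a s • e s + ∑ s, b s • f s) (f t) = a t
  simp only [map_add, map_sum, map_smul, LinearMap.add_apply, LinearMap.coe_sum, Finset.sum_apply,
    LinearMap.smul_apply, QuadraticMap.polarBilin_apply_apply, h.ff, smul_eq_mul, mul_zero, Finset.sum_const_zero,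
    add_zero, h.ef, mul_ite, mul_one, Finset.sum_ite_eq', Finset.mem_univ, if_true]

theorem HypFam.polar_vec (h : HypFam Q e f) (a b a' b' : κ → ZMod 2) :
    polar Q (vec e f a b) (vec e f a' b') = ∑ s, (a s * b' s + b s * a' s) := by
  show polarBilin Q (vec e f a b) (∑ s, a' s • e s + ∑ s, b' s • f s) = _
  simp only [map_add, map_sum, map_smul, QuadraticMap.polarBilin_apply_apply, h.polar_e, h.polar_f, smul_eq_mul]
  rw [← Finset.sum_add_distrib]
  exact Finset.sum_congr rfl fun s _ => by ring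

theorem HypFam.norm_vec (h : HypFam Q e f) (a b : κ → ZMod 2) : Q (vec e f a b) = ∑ s, a s * b s := by
  classical
  have key : ∀ S : Finset κ, Q (∑ s ∈ S, a s • e s) = 0 ∧ Q (∑ s ∈ S, b s • f s) = 0 := by
    intro S
    induction S using Finset.induction_on with
    | empty => simp
    | insert t S ht ih =>
      rw [Finset.sum_insert ht, Finset.sum_insert ht, apply_add, apply_add, ih.1, ih.2, apply_smul, apply_smul,
        h.e_norm, h.f_norm]
      constructor
      · show _ + _ + polarBilin Q (a t • e t) (∑ s ∈ S, a s • e s) = 0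
        simp [map_sum, h.ee]
      · show _ + _ + polarBilin Q (b t • f t) (∑ s ∈ S, b s • f s) = 0
        simp [map_sum, h.ff]
  rw [vec, apply_add, (key Finset.univ).1, (key Finset.univ).2, zero_add, zero_add]
  show polarBilin Q (∑ s, a s • e s) (∑ s, b s • f s) = _
  simp only [map_sum, map_smul, LinearMap.coe_sum, Finset.sum_apply, LinearMap.smul_apply,
    QuadraticMap.polarBilin_apply_apply, h.ef, smul_eq_mul, mul_ite, mul_one, mul_zero,
    Finset.sum_ite_eq', Finset.mem_univ, if_true]
  exact Finset.sum_congr rfl fun s _ => mul_comm _ _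

theorem HypFam.two_card_le (h : HypFam Q e f) : 2 * Fintype.card κ ≤ Module.finrank (ZMod 2) W := by
  let Φ : (κ → ZMod 2) × (κ → ZMod 2) →ₗ[ZMod 2] W :=
    { toFun := fun p => vec e f p.1 p.2
      map_add' := fun p q => by simp [vec, add_smul, Finset.sum_add_distrib]; abel
      map_smul' := fun t p => by simp [vec, smul_smul, Finset.smul_sum] }
  have hΦ : Function.Injective Φ := by
    rw [injective_iff_map_eq_zero]
    intro p hp
    have hp' : vec e f p.1 p.2 = 0 := hp
    refine Prod.ext (funext fun t => ?_) (funext fun t => ?_)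
    · show p.1 t = 0; rw [← h.polar_f p.1 p.2 t, hp', QuadraticMap.polar_zero_left]
    · show p.2 t = 0; rw [← h.polar_e p.1 p.2 t, hp', QuadraticMap.polar_zero_left]
  have := LinearMap.finrank_le_finrank_of_injective hΦ
  rw [Module.finrank_prod, Module.finrank_pi] at this
  omega

/-- The part orthogonal to the families. -/
noncomputable def projPerp (Q : QuadraticForm (ZMod 2) W) (e f : κ → W) (z : W) : W :=
  z + vec e f (fun s => polar Q z (f s)) (fun s => polar Q z (e s))

theorem HypFam.projPerp_e (h : HypFam Q e f) (z : W) (t : κ) : polar Q (projPerp Q e f z) (e t) = 0 := by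
  rw [projPerp, polar_add_left', h.polar_e, self_add]

theorem HypFam.projPerp_f (h : HypFam Q e f) (z : W) (t : κ) : polar Q (projPerp Q e f z) (f t) = 0 := by
  rw [projPerp, polar_add_left', h.polar_f, self_add]

theorem projPerp_ne_zero (hlt : 2 * Fintype.card κ < Module.finrank (ZMod 2) W) :
    ∃ z, projPerp Q e f z ≠ 0 := by
  by_contra hall
  push Not at hall
  have htop : Submodule.span (ZMod 2) (Set.range (Sum.elim e f)) = ⊤ := by
    rw [eq_top_iff]
    intro z _
    have hz := hall z
    rw [projPerp] at hz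
    rw [← add_left_cancel (hz.trans (add_self_vec z).symm)]
    exact add_mem (Submodule.sum_mem _ fun s _ => Submodule.smul_mem _ _ (Submodule.subset_span ⟨Sum.inl s, rfl⟩))
      (Submodule.sum_mem _ fun s _ => Submodule.smul_mem _ _ (Submodule.subset_span ⟨Sum.inr s, rfl⟩))
  have := finrank_range_le_card (R := ZMod 2) (Sum.elim e f)
  rw [Set.finrank, htop, finrank_top, Fintype.card_sum] at this
  omega

theorem HypFam.expand (h : HypFam Q e f) (hQ : (polarBilin Q).Nondegenerate)
    (hn : 2 * Fintype.card κ = Module.finrank (ZMod 2) W) (z : W) :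
    z = vec e f (fun s => polar Q z (f s)) (fun s => polar Q z (e s)) := by
  let Φ : (κ → ZMod 2) × (κ → ZMod 2) →ₗ[ZMod 2] W :=
    { toFun := fun p => vec e f p.1 p.2
      map_add' := fun p q => by simp [vec, add_smul, Finset.sum_add_distrib]; abel
      map_smul' := fun t p => by simp [vec, smul_smul, Finset.smul_sum] }
  have hΦ : Function.Injective Φ := by
    rw [injective_iff_map_eq_zero]
    intro p hp
    have hp' : vec e f p.1 p.2 = 0 := hp
    refine Prod.ext (funext fun t => ?_) (funext fun t => ?_)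
    · show p.1 t = 0; rw [← h.polar_f p.1 p.2 t, hp', QuadraticMap.polar_zero_left]
    · show p.2 t = 0; rw [← h.polar_e p.1 p.2 t, hp', QuadraticMap.polar_zero_left]
  obtain ⟨⟨a, b⟩, rfl⟩ := (LinearMap.injective_iff_surjective_of_finrank_eq_finrank (by
    rw [Module.finrank_prod, Module.finrank_pi]; omega)).1 hΦ z
  show vec e f a b = vec e f (fun s => polar Q (vec e f a b) (f s)) (fun s => polar Q (vec e f a b) (e s))
  simp only [h.polar_e, h.polar_f]

theorem HypFam.exists_isometry (h : HypFam Q e f) (hQ : (polarBilin Q).Nondegenerate) {e' f' : κ → W}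
    (h' : HypFam Q e' f') (hn : 2 * Fintype.card κ = Module.finrank (ZMod 2) W) :
    ∃ g : OQ Q, (∀ s, ap g (e s) = e' s) ∧ ∀ s, ap g (f s) = f' s := by
  let φ : W →ₗ[ZMod 2] W := ∑ s, ((polarBilin Q).flip (f s)).smulRight (e' s) +
    ∑ s, ((polarBilin Q).flip (e s)).smulRight (f' s)
  have hφ : ∀ z, φ z = vec e' f' (fun s => polar Q z (f s)) (fun s => polar Q z (e s)) := fun z => by
    simp [φ, vec, LinearMap.sum_apply]
  have hq : ∀ z, Q (φ z) = Q z := fun z => by
    rw [hφ, h'.norm_vec]
    conv_rhs => rw [h.expand hQ hn z, h.norm_vec]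
  refine ⟨ofPreserves hQ φ hq, fun t => ?_, fun t => ?_⟩
  · rw [ap, ofPreserves_apply, hφ]
    simp [vec, h.ee, h.ef]
  · rw [ap, ofPreserves_apply, hφ]
    simp [vec, h.ff, fun s => show polar Q (f t) (e s) = if s = t then 1 else 0 from
      (QuadraticMap.polar_comm _ _ _).trans (h.ef s t)]

theorem HypFam.ext_isometry (h : HypFam Q e f) (hQ : (polarBilin Q).Nondegenerate)
    (hn : 2 * Fintype.card κ = Module.finrank (ZMod 2) W) {g g' : OQ Q} (he : ∀ s, ap g (e s) = ap g' (e s))
    (hf : ∀ s, ap g (f s) = ap g' (f s)) : g = g' := by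
  refine Subtype.ext (LinearEquiv.ext fun z => ?_)
  rw [h.expand hQ hn z]
  simp only [vec, map_add, map_sum, map_smul]
  congr 1
  · exact Finset.sum_congr rfl fun s _ => by rw [show (g : W ≃ₗ[ZMod 2] W) (e s) = _ from he s]
  · exact Finset.sum_congr rfl fun s _ => by rw [show (g : W ≃ₗ[ZMod 2] W) (f s) = _ from hf s]

end Hyp

/-! ### Adapted bases -/

/-- The singular vectors `y` and their images form a hyperbolic family. -/
def Adapted {j : ℕ} (g : OQ Q) (y : Fin j ⊕ Fin j → W) : Prop :=
  HypFam Q y fun s => nn g (y s.swap)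

include hQ hn in
theorem Adapted.extend {j : ℕ} {g : OQ Q} (hg : Tot g) {y : Fin j ⊕ Fin j → W} (hy : Adapted g y)
    (hj : 4 * j < Module.finrank (ZMod 2) W) : ∃ y' : Fin (j + 1) ⊕ Fin (j + 1) → W, Adapted g y' := by
  set f := fun s : Fin j ⊕ Fin j => nn g (y s.swap) with hfdef
  have hy' : HypFam Q y f := hy
  let InP : W → Prop := fun z => (∀ s, polar Q z (y s) = 0) ∧ ∀ s, polar Q z (f s) = 0
  have hproj : ∀ z, InP (projPerp Q y f z) := fun z => ⟨hy'.projPerp_e z, hy'.projPerp_f z⟩
  have hNP : ∀ z, InP z → InP (nn g z) := fun z hz => ⟨fun s => by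
    rw [polar_nn hg]
    have := hz.2 s.swap
    simpa [f] using this, fun s => polar_nn_nn hg _ _⟩
  have hadd : ∀ z w, InP z → InP w → InP (z + w) := fun z w hz hw =>
    ⟨fun s => by rw [polar_add_left', hz.1, hw.1, add_zero], fun s => by rw [polar_add_left', hz.2, hw.2, add_zero]⟩
  have hsm : ∀ (t : ZMod 2) z, InP z → InP (t • z) := fun t z hz =>
    ⟨fun s => by rw [polar_smul_left', hz.1, mul_zero], fun s => by rw [polar_smul_left', hz.2, mul_zero]⟩
  have hproj_polar : ∀ z w, InP z → polar Q z (projPerp Q y f w) = polar Q z w := by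
    intro z w hz
    rw [projPerp, polar_add_right']
    have : polar Q z (vec y f (fun s => polar Q w (f s)) fun s => polar Q w (y s)) = 0 := by
      show polarBilin Q z (∑ s, polar Q w (f s) • y s + ∑ s, polar Q w (y s) • f s) = 0
      simp only [map_add, map_sum, map_smul, QuadraticMap.polarBilin_apply_apply, hz.1, hz.2, smul_zero,
        Finset.sum_const_zero, add_zero]
    rw [this, add_zero]
  -- a vector of the complement moved by the involution
  obtain ⟨a, haP, ha⟩ : ∃ a, InP a ∧ nn g a ≠ 0 := by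
    by_contra hall
    push Not at hall
    obtain ⟨z, hz⟩ := projPerp_ne_zero (Q := Q) (e := y) (f := f) (by rw [Fintype.card_sum, Fintype.card_fin]; omega)
    set x := projPerp Q y f z
    obtain ⟨w, hw⟩ : ∃ w, polar Q x w ≠ 0 := by
      by_contra h
      push Not at h
      exact hz (eq_zero_of_polar hQ h)
    have hxP := hproj z
    have hwP := hproj w
    have h1 := nn_fixed_singular hg (hall _ (hadd _ _ hxP hwP))
    rw [apply_add, nn_fixed_singular hg (hall _ hxP), nn_fixed_singular hg (hall _ hwP), zero_add, zero_add,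
      hproj_polar x w hxP] at h1
    exact hw h1
  obtain ⟨b₀, hb₀⟩ : ∃ b, polar Q (nn g a) b = 1 := by
    by_contra h
    push Not at h
    refine ha (eq_zero_of_polar hQ fun b => ?_)
    by_contra hb
    exact h b (eq_one_of_ne_zero _ hb)
  set b₁ := projPerp Q y f b₀
  have hb₁ : polar Q (nn g a) b₁ = 1 := by rw [hproj_polar _ _ (hNP a haP), hb₀]
  -- make them singular and orthogonal
  set b := b₁ + Q b₁ • nn g a
  have hbP : InP b := hadd _ _ (hproj b₀) (hsm _ _ (hNP a haP))
  have hbQ : Q b = 0 := by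
    rw [apply_add, apply_smul, norm_nn hQ hn hg, mul_zero, polar_smul_right', QuadraticMap.polar_comm, hb₁, add_zero,
      mul_one, self_add]
  have hbN : polar Q (nn g a) b = 1 := by
    rw [polar_add_right', polar_smul_right', polar_self_zero, hb₁, mul_zero, add_zero]
  set a₁ := a + Q a • nn g b
  have ha₁P : InP a₁ := hadd _ _ haP (hsm _ _ (hNP b hbP))
  have ha₁Q : Q a₁ = 0 := by
    rw [apply_add, apply_smul, norm_nn hQ hn hg, mul_zero, polar_smul_right', ← polar_nn hg, hbN, add_zero,
      mul_one, self_add]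
  have hN₁ : nn g a₁ = nn g a := by rw [nn_add, nn_smul, nn_nn hg, smul_zero, add_zero]
  set a₂ := a₁ + polar Q a₁ b • nn g a₁
  have ha₂P : InP a₂ := hadd _ _ ha₁P (hsm _ _ (hNP a₁ ha₁P))
  have ha₂Q : Q a₂ = 0 := by
    rw [apply_add, apply_smul, norm_nn hQ hn hg, mul_zero, polar_smul_right', polar_diag hQ hn hg, mul_zero,
      add_zero, add_zero, ha₁Q]
  have hN₂ : nn g a₂ = nn g a := by rw [nn_add, nn_smul, nn_nn hg, smul_zero, add_zero, hN₁]
  have hab : polar Q a₂ b = 0 := by
    rw [polar_add_left', polar_smul_left', hN₁, hbN, mul_one, self_add]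
  have haNb : polar Q a₂ (nn g b) = 1 := by rw [← polar_nn hg, hN₂, hbN]
  -- the longer family
  refine ⟨Sum.elim (Fin.snoc (fun i => y (Sum.inl i)) a₂) (Fin.snoc (fun i => y (Sum.inr i)) b), ?_⟩
  set y' : Fin (j + 1) ⊕ Fin (j + 1) → W :=
    Sum.elim (Fin.snoc (fun i => y (Sum.inl i)) a₂) (Fin.snoc (fun i => y (Sum.inr i)) b) with hy'def
  have key : ∀ u : Fin (j + 1) ⊕ Fin (j + 1),
      (∃ u', Sum.map Fin.castSucc Fin.castSucc u' = u) ∨ u = Sum.inl (Fin.last j) ∨ u = Sum.inr (Fin.last j) := by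
    rintro (i | i) <;> rcases Fin.eq_castSucc_or_eq_last i with ⟨l, rfl⟩ | rfl
    exacts [Or.inl ⟨Sum.inl l, rfl⟩, Or.inr (Or.inl rfl), Or.inl ⟨Sum.inr l, rfl⟩, Or.inr (Or.inr rfl)]
  have hval : ∀ u', y' (Sum.map Fin.castSucc Fin.castSucc u') = y u' := by rintro (i | i) <;> simp [y']
  have hl : y' (Sum.inl (Fin.last j)) = a₂ := by simp [y']
  have hr : y' (Sum.inr (Fin.last j)) = b := by simp [y']
  have hswap : ∀ u' : Fin j ⊕ Fin j, (Sum.map (Fin.castSucc (n := j)) Fin.castSucc u').swap =
      Sum.map Fin.castSucc Fin.castSucc u'.swap := by rintro (i | i) <;> rfl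
  have hinj : Function.Injective (Sum.map (Fin.castSucc (n := j)) (Fin.castSucc (n := j))) :=
    Sum.map_injective.2 ⟨Fin.castSucc_injective _, Fin.castSucc_injective _⟩
  have hnil : ∀ u' : Fin j ⊕ Fin j, Sum.map (Fin.castSucc (n := j)) Fin.castSucc u' ≠ Sum.inl (Fin.last j) := by
    rintro (i | i) <;> simp [Fin.castSucc_ne_last]
  have hnir : ∀ u' : Fin j ⊕ Fin j, Sum.map (Fin.castSucc (n := j)) Fin.castSucc u' ≠ Sum.inr (Fin.last j) := by
    rintro (i | i) <;> simp [Fin.castSucc_ne_last]
  refine ⟨fun s => ?_, fun s => norm_nn hQ hn hg _, fun s t => ?_, fun s t => polar_nn_nn hg _ _, fun s t => ?_⟩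
  · rcases key s with ⟨s', rfl⟩ | rfl | rfl
    · rw [hval]; exact hy'.e_norm s'
    · rw [hl, ha₂Q]
    · rw [hr, hbQ]
  · rcases key s with ⟨s', rfl⟩ | rfl | rfl <;> rcases key t with ⟨t', rfl⟩ | rfl | rfl
    · rw [hval, hval]; exact hy'.ee s' t'
    · rw [hval, hl, QuadraticMap.polar_comm]; exact ha₂P.1 s'
    · rw [hval, hr, QuadraticMap.polar_comm]; exact hbP.1 s'
    · rw [hval, hl]; exact ha₂P.1 t'
    · exact polar_self_zero _
    · rw [hl, hr, hab]
    · rw [hval, hr]; exact hbP.1 t'
    · rw [hl, hr, QuadraticMap.polar_comm, hab]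
    · exact polar_self_zero _
  · rcases key s with ⟨s', rfl⟩ | rfl | rfl <;> rcases key t with ⟨t', rfl⟩ | rfl | rfl
    · show polar Q (y' _) (nn g (y' _)) = _
      rw [hswap, hval, hval]
      simp only [hinj.eq_iff]
      exact hy'.ef s' t'
    · show polar Q (y' _) (nn g (y' _)) = _
      rw [if_neg (hnil s'), Sum.swap_inl, hval, hr, ← polar_nn hg]
      rw [polar_nn hg, QuadraticMap.polar_comm]
      exact (hNP b hbP).1 s'
    · show polar Q (y' _) (nn g (y' _)) = _
      rw [if_neg (hnir s'), Sum.swap_inr, hval, hl, QuadraticMap.polar_comm]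
      exact (hNP a₂ ha₂P).1 s'
    · show polar Q (y' _) (nn g (y' _)) = _
      rw [hswap, if_neg (Ne.symm (hnil t')), hl, hval]
      exact ha₂P.2 t'
    · show polar Q (y' _) (nn g (y' _)) = _
      rw [if_pos rfl, Sum.swap_inl, hl, hr, haNb]
    · show polar Q (y' _) (nn g (y' _)) = _
      rw [if_neg (by simp), Sum.swap_inr, hl, polar_diag hQ hn hg]
    · show polar Q (y' _) (nn g (y' _)) = _
      rw [hswap, if_neg (Ne.symm (hnir t')), hr, hval]
      exact hbP.2 t'
    · show polar Q (y' _) (nn g (y' _)) = _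
      rw [if_neg (by simp), Sum.swap_inl, hr, polar_diag hQ hn hg]
    · show polar Q (y' _) (nn g (y' _)) = _
      rw [if_pos rfl, Sum.swap_inr, hr, hl, ← polar_nn hg, QuadraticMap.polar_comm, haNb]

include hQ hn in
/-- The dimension is four times the length of an adapted basis. -/
theorem exists_adapted {g : OQ Q} (hg : Tot g) :
    ∃ (k : ℕ) (y : Fin k ⊕ Fin k → W), Module.finrank (ZMod 2) W = 4 * k ∧ Adapted g y := by
  have h : ∀ j, 4 * j ≤ Module.finrank (ZMod 2) W + 3 → ∃ y : Fin j ⊕ Fin j → W, Adapted g y := by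
    intro j
    induction j with
    | zero =>
      intro _
      refine ⟨fun s => s.elim Fin.elim0 Fin.elim0, ⟨?_, ?_, ?_, ?_, ?_⟩⟩ <;>
        exact fun s => s.elim Fin.elim0 Fin.elim0
    | succ j ih =>
      intro hj
      obtain ⟨y, hy⟩ := ih (by omega)
      exact hy.extend hQ hn hg (by omega)
  set n := Module.finrank (ZMod 2) W
  obtain ⟨y, hy⟩ := h ((n + 3) / 4) (by omega)
  refine ⟨(n + 3) / 4, y, ?_, hy⟩
  have := HypFam.two_card_le (show HypFam Q y _ from hy)
  rw [Fintype.card_sum, Fintype.card_fin] at this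
  omega

include hQ hn in
theorem isConj {g g' : OQ Q} (hg : Tot g) (hg' : Tot g') : ∃ h : OQ Q, h * g * h⁻¹ = g' := by
  obtain ⟨k, y, hk, hy⟩ := exists_adapted hQ hn hg
  obtain ⟨k', y', hk', hy'⟩ := exists_adapted hQ hn hg'
  obtain rfl : k' = k := by omega
  have hy1 : HypFam Q y _ := hy
  have hy2 : HypFam Q y' _ := hy'
  have hcard : 2 * Fintype.card (Fin k' ⊕ Fin k') = Module.finrank (ZMod 2) W := by
    rw [Fintype.card_sum, Fintype.card_fin]; omega
  obtain ⟨h, he, hf⟩ := hy1.exists_isometry hQ hy2 hcard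
  have hN : ∀ {g : OQ Q} (x : W), ap g x = nn g x + x := fun x => by
    show _ = ap _ x + x + x; rw [add_assoc, add_self_vec, add_zero]
  refine ⟨h, mul_inv_eq_iff_eq_mul.2 (hy1.ext_isometry hQ hcard (fun s => ?_) (fun s => ?_))⟩
  · show ap h (ap g (y s)) = ap g' (ap h (y s))
    rw [he, hN (g := g), hN (g := g')]
    show (h : W ≃ₗ[ZMod 2] W) (nn g (y s) + y s) = _
    rw [map_add, show (h : W ≃ₗ[ZMod 2] W) (y s) = y' s from he s]
    have := hf s.swap
    simp only [Sum.swap_swap] at this
    rw [show (h : W ≃ₗ[ZMod 2] W) (nn g (y s)) = _ from this]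
  · show ap h (ap g (nn g (y s.swap))) = ap g' (ap h (nn g (y s.swap)))
    rw [show ap g (nn g (y s.swap)) = nn g (y s.swap) by
      rw [hN (g := g) (nn g (y s.swap)), nn_nn hg, zero_add],
      show ap h (nn g (y s.swap)) = nn g' (y' s.swap) from hf s,
      hN (g := g') (nn g' (y' s.swap)), nn_nn hg', zero_add]

/-! ### Many of them -/

theorem Tot.conj {g : OQ Q} (hg : Tot g) (h : OQ Q) : Tot (h * g * h⁻¹) := by
  have hval : ∀ x, ap (h * g * h⁻¹) (ap h x) = ap h (ap g x) := fun x => by
    show (h : W ≃ₗ[ZMod 2] W) ((g : W ≃ₗ[ZMod 2] W) ((h : W ≃ₗ[ZMod 2] W).symm ((h : W ≃ₗ[ZMod 2] W) x))) = _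
    rw [LinearEquiv.symm_apply_apply]
  refine ⟨fun x => ?_, fun a ha => ?_⟩
  · obtain ⟨x, rfl⟩ := (h : W ≃ₗ[ZMod 2] W).surjective x
    rw [hval, hval, hg.1]
  · obtain ⟨a, rfl⟩ := (h : W ≃ₗ[ZMod 2] W).surjective a
    rw [OQ.map_apply] at ha
    rw [show ap (h * g * h⁻¹) ((h : W ≃ₗ[ZMod 2] W) a) = ap h (ap g a) from hval a, OQ.map_polar]
    exact ⟨fun e => (hg.2 a ha).1 ((h : W ≃ₗ[ZMod 2] W).injective e), (hg.2 a ha).2⟩

section Many

variable {κ : Type} [Fintype κ] [DecidableEq κ] {e f : κ → W}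

/-- The alternating matrix of a square matrix. -/
abbrev alt (U : Matrix κ κ (ZMod 2)) : Matrix κ κ (ZMod 2) := U + Uᵀ

theorem alt_quad (U : Matrix κ κ (ZMod 2)) (a : κ → ZMod 2) : ∑ s, a s * ((alt U) *ᵥ a) s = 0 := by
  show a ⬝ᵥ ((U + Uᵀ) *ᵥ a) = 0
  rw [Matrix.add_mulVec, dotProduct_add, Matrix.dotProduct_mulVec a Uᵀ a, Matrix.vecMul_transpose,
    dotProduct_comm (U *ᵥ a) a, self_add]

include hQ in
theorem exists_upper (h : HypFam Q e f) (hc : 2 * Fintype.card κ = Module.finrank (ZMod 2) W) (U : Matrix κ κ (ZMod 2)) :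
    ∃ g : OQ Q, ∀ a b, ap g (vec e f a b) = vec e f a (b + alt U *ᵥ a) := by
  let φ : W →ₗ[ZMod 2] W := LinearMap.id +
    ∑ t, (∑ s, alt U t s • (polarBilin Q).flip (f s)).smulRight (f t)
  have hφ : ∀ a b, φ (vec e f a b) = vec e f a (b + alt U *ᵥ a) := fun a b => by
    simp only [φ, LinearMap.add_apply, LinearMap.id_apply, LinearMap.coe_sum, Finset.sum_apply,
      LinearMap.smulRight_apply, LinearMap.smul_apply, LinearMap.flip_apply,
      QuadraticMap.polarBilin_apply_apply, h.polar_f, smul_eq_mul]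
    simp only [vec, Pi.add_apply, add_smul, Finset.sum_add_distrib, Matrix.mulVec, dotProduct]
    abel
  have hq : ∀ z, Q (φ z) = Q z := fun z => by
    rw [h.expand hQ hc z, hφ, h.norm_vec, h.norm_vec]
    simp only [Pi.add_apply, mul_add, Finset.sum_add_distrib, alt_quad, add_zero]
  exact ⟨ofPreserves hQ φ hq, fun a b => by rw [ap, ofPreserves_apply, hφ]⟩

theorem HypFam.symm (h : HypFam Q e f) : HypFam Q f e :=
  ⟨h.f_norm, h.e_norm, h.ff, h.ee, fun s t => by
    rw [QuadraticMap.polar_comm, h.ef]; simp only [eq_comm]⟩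

theorem vec_symm (a b : κ → ZMod 2) : vec f e b a = vec e f a b := add_comm _ _

theorem HypFam.vec_inj (h : HypFam Q e f) {a b a' b' : κ → ZMod 2} (he : vec e f a b = vec e f a' b') :
    a = a' ∧ b = b' :=
  ⟨funext fun t => by rw [← h.polar_f a b t, he, h.polar_f], funext fun t => by rw [← h.polar_e a b t, he, h.polar_e]⟩

include hQ in
/-- An invertible and an arbitrary alternating matrix give an element. -/
theorem exists_tot (h : HypFam Q e f) (hc : 2 * Fintype.card κ = Module.finrank (ZMod 2) W)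
    (A U : Matrix κ κ (ZMod 2)) (hU : ∀ a, alt U *ᵥ a = 0 → a = 0) :
    ∃ g : OQ Q, Tot g ∧ ∀ a b, ap g (vec e f a b) =
      vec e f (a + alt A *ᵥ b + alt A *ᵥ (b + alt U *ᵥ (a + alt A *ᵥ b))) (b + alt U *ᵥ (a + alt A *ᵥ b)) := by
  obtain ⟨g, hg⟩ := exists_upper hQ h hc U
  obtain ⟨k, hk⟩ := exists_upper hQ h.symm hc A
  have hk' : ∀ a b, ap k (vec e f a b) = vec e f (a + alt A *ᵥ b) b := fun a b => by
    rw [← vec_symm, hk, vec_symm]
  have hsurj : ∀ z, ∃ a b, vec e f a b = z := fun z => ⟨_, _, (h.expand hQ hc z).symm⟩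
  have h2 : ∀ v : κ → ZMod 2, v + v = 0 := fun v => funext fun s => self_add _
  have hkk : k * k = 1 := by
    refine Subtype.ext (LinearEquiv.ext fun z => ?_)
    obtain ⟨a, b, rfl⟩ := hsurj z
    show ap k (ap k (vec e f a b)) = vec e f a b
    rw [hk', hk', add_assoc, h2, add_zero]
  have hgt : Tot g := by
    refine ⟨fun z => ?_, fun z hz => ?_⟩
    · obtain ⟨a, b, rfl⟩ := hsurj z
      rw [hg, hg, add_assoc, h2, add_zero]
    · obtain ⟨a, b, rfl⟩ := hsurj z
      rw [hg]
      refine ⟨fun he => hz ?_, ?_⟩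
      · have := hU a (add_left_cancel ((h.vec_inj he).2.trans (add_zero b).symm))
        simp [h.norm_vec, this]
      · rw [h.polar_vec]
        simp only [Pi.add_apply, mul_add, Finset.sum_add_distrib, alt_quad, add_zero]
        rw [← Finset.sum_add_distrib]
        exact Finset.sum_eq_zero fun s _ => by rw [mul_comm (b s), self_add]
  refine ⟨k * g * k⁻¹, hgt.conj k, fun a b => ?_⟩
  rw [inv_eq_of_mul_eq_one_right hkk]
  show ap k (ap g (ap k (vec e f a b))) = _
  rw [hk', hg, hk']

end Many

/-- Square matrices with entries above the diagonal. -/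
def StrictUpper (m : ℕ) : Type := {p : Fin m × Fin m // p.1 < p.2} → ZMod 2

instance (m : ℕ) : Fintype (StrictUpper m) := inferInstanceAs (Fintype ({p : Fin m × Fin m // p.1 < p.2} → ZMod 2))

theorem card_strictUpper (m : ℕ) : Fintype.card (StrictUpper m) = 2 ^ (m * (m - 1) / 2) := by
  show Fintype.card ({p : Fin m × Fin m // p.1 < p.2} → ZMod 2) = _
  rw [Fintype.card_fun, ZMod.card]
  congr 1
  rw [Fintype.card_subtype]
  set S := Finset.univ.filter fun p : Fin m × Fin m => p.1 < p.2
  have hswap : (Finset.univ.filter fun p : Fin m × Fin m => p.2 < p.1).card = S.card := by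
    refine Finset.card_equiv (Equiv.prodComm _ _) fun p => ?_
    simp [S]
  have hdiag : (Finset.univ.filter fun p : Fin m × Fin m => p.1 = p.2).card = m := by
    rw [show (Finset.univ.filter fun p : Fin m × Fin m => p.1 = p.2) = Finset.univ.image fun i => (i, i) by
      ext ⟨a, b⟩; simp, Finset.card_image_of_injective _ fun a b h => (Prod.mk.inj h).1, Finset.card_univ, Fintype.card_fin]
  have htot : S.card + (Finset.univ.filter fun p : Fin m × Fin m => p.2 < p.1).card +
      (Finset.univ.filter fun p : Fin m × Fin m => p.1 = p.2).card = m * m := by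
    rw [← Finset.card_union_of_disjoint (Finset.disjoint_filter.2 fun p _ h h' => lt_asymm h h'),
      ← Finset.card_union_of_disjoint (Finset.disjoint_left.2 fun p hp hp' => by
        simp only [S, Finset.mem_union, Finset.mem_filter, Finset.mem_univ, true_and] at hp hp'
        rcases hp with h | h <;> simp [hp'] at h)]
    rw [show S ∪ (Finset.univ.filter fun p : Fin m × Fin m => p.2 < p.1) ∪
        (Finset.univ.filter fun p : Fin m × Fin m => p.1 = p.2) = Finset.univ by
      ext p; simp only [S, Finset.mem_union, Finset.mem_filter, Finset.mem_univ, true_and, iff_true]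
      rcases lt_trichotomy p.1 p.2 with h | h | h <;> tauto]
    simp
  rw [hswap, hdiag] at htot
  cases m with
  | zero => omega
  | succ n =>
    rw [Nat.add_sub_cancel]
    have : (n + 1) * (n + 1) = (n + 1) * n + (n + 1) := by ring
    omega

/-- The matrix of such data. -/
def upperMat {m : ℕ} (u : StrictUpper m) : Matrix (Fin m) (Fin m) (ZMod 2) :=
  Matrix.of fun i j => if h : i < j then u ⟨(i, j), h⟩ else 0

theorem alt_upperMat_inj {m : ℕ} {u u' : StrictUpper m} (h : alt (upperMat u) = alt (upperMat u')) : u = u' := by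
  funext ⟨⟨i, j⟩, hij⟩
  have := congrFun (congrFun h i) j
  simpa [alt, upperMat, hij, lt_asymm hij] using this

include hQ hn in
/-- A lower bound for their number. -/
theorem le_ncard_tot {g : OQ Q} (hg : Tot g) {k : ℕ} (hk : Module.finrank (ZMod 2) W = 4 * k) :
    2 ^ (k * (2 * k - 1) + k * (k - 1)) ≤ {g' : OQ Q | Tot g'}.ncard := by
  classical
  obtain ⟨k', y, hk', hy⟩ := exists_adapted hQ hn hg
  obtain rfl : k' = k := by omega
  have hH : HypFam Q y _ := hy
  have hcard : 2 * Fintype.card (Fin k' ⊕ Fin k') = Module.finrank (ZMod 2) W := by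
    rw [Fintype.card_sum, Fintype.card_fin]; omega
  let σ : Fin k' ⊕ Fin k' ≃ Fin (2 * k') := finSumFinEquiv.trans (finCongr (by omega))
  let MA : StrictUpper (2 * k') → Matrix (Fin k' ⊕ Fin k') (Fin k' ⊕ Fin k') (ZMod 2) :=
    fun u => (upperMat u).submatrix σ σ
  let R : StrictUpper k' → Matrix (Fin k') (Fin k') (ZMod 2) := fun u => 1 + upperMat u
  let MU : StrictUpper k' × StrictUpper k' → Matrix (Fin k' ⊕ Fin k') (Fin k' ⊕ Fin k') (ZMod 2) :=
    fun p => Matrix.fromBlocks (upperMat p.1) (R p.2) 0 0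
  have haltU : ∀ p, alt (MU p) = Matrix.fromBlocks (alt (upperMat p.1)) (R p.2) (R p.2)ᵀ 0 := fun p => by
    simp [alt, MU, Matrix.fromBlocks_transpose, Matrix.fromBlocks_add]
  have hdet : ∀ u, (R u).det = 1 := fun u => by
    rw [Matrix.det_of_isUpperTriangular (fun i j (hij : j < i) => by
      simp [R, upperMat, (ne_of_lt hij).symm, lt_asymm hij])]
    refine Finset.prod_eq_one fun i _ => ?_
    simp [R, upperMat]
  have hinj : ∀ p a, alt (MU p) *ᵥ a = 0 → a = 0 := by
    intro p a ha
    rw [haltU, Matrix.fromBlocks_mulVec] at ha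
    have h1 : (alt (upperMat p.1)) *ᵥ (a ∘ Sum.inl) + R p.2 *ᵥ (a ∘ Sum.inr) = 0 :=
      funext fun i => congrFun ha (Sum.inl i)
    have h2 : (R p.2)ᵀ *ᵥ (a ∘ Sum.inl) = 0 := funext fun i => by
      have := congrFun ha (Sum.inr i); simpa using this
    have hl : a ∘ Sum.inl = 0 := Matrix.eq_zero_of_mulVec_eq_zero (by rw [Matrix.det_transpose, hdet]; exact one_ne_zero) h2
    rw [hl, Matrix.mulVec_zero, zero_add] at h1
    have hr : a ∘ Sum.inr = 0 := Matrix.eq_zero_of_mulVec_eq_zero (by rw [hdet]; exact one_ne_zero) h1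
    exact funext fun s => s.rec (congrFun hl) (congrFun hr)
  choose Φ hΦ hΦval using fun q : StrictUpper (2 * k') × (StrictUpper k' × StrictUpper k') =>
    exists_tot hQ hH hcard (MA q.1) (MU q.2) (hinj q.2)
  have hΦinj : Function.Injective Φ := by
    intro q q' hqq
    have hU : alt (MU q.2) = alt (MU q'.2) := by
      refine Matrix.ext_of_mulVec_single fun i => ?_
      have e1 := hΦval q (Pi.single i 1) 0
      rw [hqq, hΦval q'] at e1
      simpa using (hH.vec_inj e1).2.symm
    have hA : alt (MA q.1) = alt (MA q'.1) := by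
      refine Matrix.ext_of_mulVec_single fun i => ?_
      have e1 := hΦval q 0 (Pi.single i 1)
      rw [hqq, hΦval q'] at e1
      have e2 := (hH.vec_inj e1).2
      rw [zero_add, zero_add, ← hU] at e2
      refine (sub_eq_zero.1 (hinj q.2 _ ?_)).symm
      rw [Matrix.mulVec_sub, sub_eq_zero]
      exact add_left_cancel e2
    have hA' : alt (upperMat q.1) = alt (upperMat q'.1) := by
      have := congrArg (fun M => M.submatrix σ.symm σ.symm) hA
      simpa [alt, MA, Matrix.submatrix_add, Matrix.transpose_submatrix, Matrix.submatrix_submatrix] using this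
    rw [haltU, haltU, Matrix.fromBlocks_inj] at hU
    have h2 : q.2.2 = q'.2.2 := alt_upperMat_inj (by
      have : upperMat q.2.2 = upperMat q'.2.2 := add_left_cancel hU.2.1
      rw [this])
    exact Prod.ext (alt_upperMat_inj hA') (Prod.ext (alt_upperMat_inj hU.1) h2)
  haveI : Finite W := Module.finite_of_finite (ZMod 2)
  haveI : Finite (W ≃ₗ[ZMod 2] W) := Finite.of_injective _ DFunLike.coe_injective
  calc 2 ^ (k' * (2 * k' - 1) + k' * (k' - 1))
      = Fintype.card (StrictUpper (2 * k') × (StrictUpper k' × StrictUpper k')) := by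
        rw [Fintype.card_prod, Fintype.card_prod, card_strictUpper, card_strictUpper, ← pow_add, ← pow_add]
        congr 1
        have h1 : 2 * k' * (2 * k' - 1) / 2 = k' * (2 * k' - 1) := by rw [mul_assoc]; omega
        have h2 : k' * (k' - 1) / 2 + k' * (k' - 1) / 2 = k' * (k' - 1) := by
          have : 2 ∣ k' * (k' - 1) := Nat.two_dvd_mul_sub_one k'
          omega
        omega
    _ = (Set.range Φ).ncard := by
        rw [← Nat.card_eq_fintype_card, ← Nat.card_range_of_injective hΦinj, Nat.card_coe_set_eq]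
    _ ≤ _ := Set.ncard_le_ncard (by rintro _ ⟨q, rfl⟩; exact hΦ q) (Set.toFinite _)

end CfsgLib.ThreeTrans.Fischer.Disconnected.Two
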