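import Cfsg.Agent.Lib.Classical.Quad.Eichler
import Mathlib.Algebra.Field.ZMod

/-!
Isometries squaring to `-1` of a quadratic space over the field with three elements: adapted orthogonal
bases, conjugacy, and their number (owner: helper4).
-/

set_option autoImplicit false
set_option linter.unusedSectionVars false
set_option linter.style.haveILetI false

namespace CfsgLib.ThreeTrans.Fischer.Disconnected.Three

open CfsgLib.Classical.Quad
open QuadraticMap (polar polarBilin)

universe v

theorem two_ne : (2 : ZMod 3) ≠ 0 := by decide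

theorem inv_two_mul : ∀ {c : ZMod 3}, c ≠ 0 → 2 * c * (2 * c) = 1 := by decide

/-- The number of unit vectors of a sum of `d` squares. -/
def nn (d : ℕ) : ℕ := Fintype.card {x : Fin d → ZMod 3 // ∑ i, x i * x i = 1}

/-- The predicted number of complex structures in dimension `2r`. -/
def pp : ℕ → ℕ
  | 0 => 1
  | r + 1 => nn (2 * r + 1) * pp r

theorem nn_one : nn 1 = 2 := by decide +kernel

theorem nn_three : nn 3 = 6 := by decide +kernel

theorem nn_five : nn 5 = 90 := by decide +kernel

theorem solve_linear : ∀ B q t : ZMod 3, B ≠ 0 → ∃ z : ZMod 3, z * B + q = t := by decide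

theorem norm_cases : ∀ q c : ZMod 3, q ≠ 0 → c ≠ 0 → q = c ∨ q + q = c := by decide

theorem exists_squares : ∀ t : ZMod 3, ∃ a b : ZMod 3, a * a + b * b = t := by decide

/-- Two coordinates reach every value. -/
theorem pow_le_nn (d : ℕ) : 3 ^ d ≤ nn (d + 2) := by
  classical
  choose a b hab using exists_squares
  let f : (Fin d → ZMod 3) → {x : Fin (d + 2) → ZMod 3 // ∑ i, x i * x i = 1} := fun x =>
    ⟨Fin.cons (a (1 - ∑ i, x i * x i)) (Fin.cons (b (1 - ∑ i, x i * x i)) x), by
      rw [Fin.sum_univ_succ, Fin.sum_univ_succ]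
      simp only [Fin.cons_zero, Fin.cons_succ]
      rw [← add_assoc, hab, sub_add_cancel]⟩
  have hf : Function.Injective f := fun x y h => by
    funext i
    have := congrFun (congrArg Subtype.val h) i.succ.succ
    simpa [f] using this
  have := Fintype.card_le_of_injective f hf
  simpa [nn, ZMod.card] using this

theorem pp_three : pp 3 = 1080 := by
  simp only [pp, Nat.reduceMul, Nat.reduceAdd, nn_one, nn_three, nn_five]

theorem pp_succ (r : ℕ) : pp (r + 1) = nn (2 * r + 1) * pp r := rfl

theorem le_pp_succ (r : ℕ) (hr : 1 ≤ r) : 3 ^ (2 * r - 1) * pp r ≤ pp (r + 1) := by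
  rw [pp_succ, show 2 * r + 1 = 2 * r - 1 + 2 by omega]
  exact Nat.mul_le_mul_right _ (pow_le_nn _)

variable [Fact (Nat.Prime 3)] {W : Type v} [AddCommGroup W] [Module (ZMod 3) W] [FiniteDimensional (ZMod 3) W]
  {Q : QuadraticForm (ZMod 3) W} {c : ZMod 3}

/-- The action of an isometry. -/
abbrev ap (g : OQ Q) (x : W) : W := (g : W ≃ₗ[ZMod 3] W) x

/-- An isometry squaring to `-1`. -/
def Cx (g : OQ Q) : Prop := ∀ x, ap g (ap g x) = -x

theorem Cx.perp {g : OQ Q} (hg : Cx g) (x : W) : polar Q x (ap g x) = 0 := by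
  have h := OQ.map_polar g x (ap g x)
  rw [show (g : W ≃ₗ[ZMod 3] W) (ap g x) = -x from hg x, QuadraticMap.polar_neg_right,
    QuadraticMap.polar_comm] at h
  have h2 : (2 : ZMod 3) * polar Q x (ap g x) = 0 := by linear_combination -h
  exact (mul_eq_zero.1 h2).resolve_left two_ne

theorem Cx.polar_left {g : OQ Q} (hg : Cx g) (x y : W) : polar Q (ap g x) y = -polar Q x (ap g y) := by
  have h := OQ.map_polar g (ap g x) y
  rw [show (g : W ≃ₗ[ZMod 3] W) (ap g x) = -x from hg x, QuadraticMap.polar_neg_left] at h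
  exact h.symm

/-- An orthogonal family of norm `c`. -/
def OrthFam {κ : Type*} [DecidableEq κ] (Q : QuadraticForm (ZMod 3) W) (c : ZMod 3) (e : κ → W) : Prop :=
  ∀ s t, polar Q (e s) (e t) = if s = t then 2 * c else 0

section Fam

variable {κ : Type*} [Fintype κ] [DecidableEq κ] {e : κ → W}

theorem OrthFam.norm (h : OrthFam Q c e) (s : κ) : Q (e s) = c := by
  have := h s s
  rw [if_pos rfl, polar_self'] at this
  exact mul_left_cancel₀ two_ne this

theorem OrthFam.polar_sum (h : OrthFam Q c e) (x : κ → ZMod 3) (t : κ) :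
    polar Q (∑ s, x s • e s) (e t) = x t * (2 * c) := by
  have : polar Q (∑ s, x s • e s) (e t) = ∑ s, x s * polar Q (e s) (e t) := by
    show polarBilin Q (∑ s, x s • e s) (e t) = _
    simp
  rw [this, Finset.sum_eq_single t (fun s _ hs => by rw [h, if_neg hs, mul_zero]) (by simp), h, if_pos rfl]

theorem OrthFam.coeff (h : OrthFam Q c e) (hc : c ≠ 0) (x : κ → ZMod 3) (t : κ) :
    x t = 2 * c * polar Q (∑ s, x s • e s) (e t) := by
  rw [h.polar_sum]; linear_combination -(x t) * inv_two_mul hc

theorem OrthFam.linearIndependent (h : OrthFam Q c e) (hc : c ≠ 0) : LinearIndependent (ZMod 3) e := by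
  rw [Fintype.linearIndependent_iff]
  intro x hx t
  rw [h.coeff hc x t, hx, QuadraticMap.polar_zero_left, mul_zero]

theorem OrthFam.norm_sum (h : OrthFam Q c e) (x : κ → ZMod 3) :
    Q (∑ s, x s • e s) = c * ∑ s, x s * x s := by
  have h1 : polar Q (∑ s, x s • e s) (∑ t, x t • e t) = ∑ t, x t * polar Q (∑ s, x s • e s) (e t) := by
    show polarBilin Q _ (∑ t, x t • e t) = _
    rw [map_sum]
    exact Finset.sum_congr rfl fun t _ => by rw [map_smul, smul_eq_mul]; rfl
  rw [polar_self'] at h1
  simp only [h.polar_sum] at h1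
  refine mul_left_cancel₀ two_ne ?_
  rw [h1, Finset.mul_sum, Finset.mul_sum]
  exact Finset.sum_congr rfl fun t _ => by ring

/-- The part orthogonal to the family. -/
noncomputable def projPerp (Q : QuadraticForm (ZMod 3) W) (c : ZMod 3) (e : κ → W) (w : W) : W :=
  w - ∑ s, (2 * c * polar Q w (e s)) • e s

theorem OrthFam.polar_projPerp (h : OrthFam Q c e) (hc : c ≠ 0) (w : W) (t : κ) :
    polar Q (projPerp Q c e w) (e t) = 0 := by
  rw [projPerp, QuadraticMap.polar_sub_left, h.polar_sum]
  linear_combination -(polar Q w (e t)) * inv_two_mul hc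

theorem projPerp_ne_zero (hlt : Fintype.card κ < Module.finrank (ZMod 3) W) :
    ∃ w, projPerp Q c e w ≠ 0 := by
  by_contra hall
  push Not at hall
  have htop : Submodule.span (ZMod 3) (Set.range e) = ⊤ := by
    rw [eq_top_iff]
    intro w _
    rw [sub_eq_zero.1 (hall w)]
    exact Submodule.sum_mem _ fun s _ => Submodule.smul_mem _ _ (Submodule.subset_span ⟨s, rfl⟩)
  have := finrank_range_le_card (R := ZMod 3) e
  rw [Set.finrank, htop, finrank_top] at this
  omega

theorem OrthFam.expand (h : OrthFam Q c e) (hc : c ≠ 0) (hn : Fintype.card κ = Module.finrank (ZMod 3) W) (w : W) :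
    w = ∑ s, (2 * c * polar Q w (e s)) • e s := by
  have hspan := (h.linearIndependent hc).span_eq_top_of_card_eq_finrank' hn
  obtain ⟨x, rfl⟩ := (Submodule.mem_span_range_iff_exists_fun (ZMod 3)).1
    (hspan ▸ Submodule.mem_top : w ∈ Submodule.span (ZMod 3) (Set.range e))
  exact Finset.sum_congr rfl fun s _ => by rw [← h.coeff hc x s]

theorem OrthFam.eq_zero (h : OrthFam Q c e) (hc : c ≠ 0) (hn : Fintype.card κ = Module.finrank (ZMod 3) W)
    {w : W} (hw : ∀ s, polar Q w (e s) = 0) : w = 0 := by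
  rw [h.expand hc hn w]
  simp [hw]

theorem OrthFam.exists_isometry (hQ : (polarBilin Q).Nondegenerate) (h : OrthFam Q c e) {e' : κ → W}
    (h' : OrthFam Q c e') (hc : c ≠ 0) (hn : Fintype.card κ = Module.finrank (ZMod 3) W) :
    ∃ g : OQ Q, ∀ s, ap g (e s) = e' s := by
  let f : W →ₗ[ZMod 3] W := ∑ s, ((2 * c) • (polarBilin Q).flip (e s)).smulRight (e' s)
  have hf : ∀ w, f w = ∑ s, (2 * c * polar Q w (e s)) • e' s := fun w => by
    simp [f, LinearMap.sum_apply]
  have hq : ∀ w, Q (f w) = Q w := fun w => by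
    rw [hf, h'.norm_sum]
    conv_rhs => rw [h.expand hc hn w, h.norm_sum]
  refine ⟨ofPreserves hQ f hq, fun t => ?_⟩
  rw [ap, ofPreserves_apply, hf, Finset.sum_eq_single t (fun s _ hs => by
    rw [h, if_neg (Ne.symm hs), mul_zero, zero_smul]) (by simp), h, if_pos rfl, inv_two_mul hc, one_smul]

theorem OrthFam.ext_isometry (h : OrthFam Q c e) (hc : c ≠ 0) (hn : Fintype.card κ = Module.finrank (ZMod 3) W)
    {g g' : OQ Q} (he : ∀ s, ap g (e s) = ap g' (e s)) : g = g' := by
  refine Subtype.ext (LinearEquiv.ext fun w => ?_)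
  rw [h.expand hc hn w]
  simp only [map_sum, map_smul]
  exact Finset.sum_congr rfl fun s _ => by rw [show (g : W ≃ₗ[ZMod 3] W) (e s) = _ from he s]

end Fam

/-- The pairs of vectors `F i, g (F i)` are orthogonal of norm `c`. -/
def Frame {j : ℕ} (g : OQ Q) (c : ZMod 3) (F : Fin j → W) : Prop :=
  OrthFam Q c (Sum.elim F fun i => ap g (F i))

theorem Frame.map {j : ℕ} {g : OQ Q} {F : Fin j → W} (hF : Frame g c F) (h : OQ Q) :
    Frame (h * g * h⁻¹) c (fun i => ap h (F i)) := by
  have e : ∀ i, ap (h * g * h⁻¹) (ap h (F i)) = ap h (ap g (F i)) := fun i => by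
    show (h : W ≃ₗ[ZMod 3] W) ((g : W ≃ₗ[ZMod 3] W) ((h : W ≃ₗ[ZMod 3] W).symm ((h : W ≃ₗ[ZMod 3] W) (F i)))) = _
    rw [LinearEquiv.symm_apply_apply]
  intro s t
  have : ∀ u, Sum.elim (fun i => ap h (F i)) (fun i => ap (h * g * h⁻¹) (ap h (F i))) u =
      ap h (Sum.elim F (fun i => ap g (F i)) u) := by
    rintro (i | i)
    · rfl
    · exact e i
  rw [this, this, OQ.map_polar]
  exact hF s t

theorem Cx.conj {g : OQ Q} (hg : Cx g) (h : OQ Q) : Cx (h * g * h⁻¹) := by
  intro x
  show (h : W ≃ₗ[ZMod 3] W) ((g : W ≃ₗ[ZMod 3] W) ((h : W ≃ₗ[ZMod 3] W).symm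
    ((h : W ≃ₗ[ZMod 3] W) ((g : W ≃ₗ[ZMod 3] W) ((h : W ≃ₗ[ZMod 3] W).symm x))))) = -x
  rw [LinearEquiv.symm_apply_apply, show (g : W ≃ₗ[ZMod 3] W) ((g : W ≃ₗ[ZMod 3] W) _) = _ from hg _,
    map_neg, LinearEquiv.apply_symm_apply]

variable (hQ : (polarBilin Q).Nondegenerate) (hc : c ≠ 0)
include hQ hc

/-- A frame grows while it is short. -/
theorem Frame.extend {j : ℕ} {g : OQ Q} {F : Fin j → W} (hg : Cx g) (hF : Frame g c F)
    (hj : 2 * j < Module.finrank (ZMod 3) W) : ∃ F' : Fin (j + 1) → W, Frame g c F' := by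
  set e := Sum.elim F fun i => ap g (F i) with he
  have hperp : ∀ x, (∀ s, polar Q x (e s) = 0) → ∀ s, polar Q (ap g x) (e s) = 0 := by
    rintro x hx (i | i)
    · show polar Q (ap g x) (F i) = 0
      rw [hg.polar_left, show polar Q x (ap g (F i)) = 0 from hx (Sum.inr i), neg_zero]
    · show polar Q (ap g x) (ap g (F i)) = 0
      rw [OQ.map_polar]; exact hx (Sum.inl i)
  obtain ⟨a, ha, haP⟩ : ∃ a, Q a = c ∧ ∀ s, polar Q a (e s) = 0 := by
    obtain ⟨w, hw⟩ := projPerp_ne_zero (Q := Q) (c := c) (e := e) (by simp; omega)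
    have hwP := fun s => OrthFam.polar_projPerp (e := e) hF hc w s
    set x := projPerp Q c e w
    by_cases h0 : Q x = 0
    · obtain ⟨y₀, hy₀⟩ : ∃ y, polar Q x y ≠ 0 := by
        by_contra hall
        push Not at hall
        exact hw (eq_zero_of_polar hQ hall)
      have hyP := fun s => OrthFam.polar_projPerp (e := e) hF hc y₀ s
      set y := projPerp Q c e y₀ with hy
      have hxy : polar Q x y = polar Q x y₀ := by
        have hsum : polar Q x (∑ s, (2 * c * polar Q y₀ (e s)) • e s) = 0 := by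
          show polarBilin Q x _ = 0
          rw [map_sum, Finset.sum_eq_zero]
          intro s _
          rw [map_smul]
          show _ • polar Q x (e s) = 0
          rw [hwP s, smul_zero]
        rw [hy, projPerp, QuadraticMap.polar_sub_right, hsum, sub_zero]
      obtain ⟨z, hz⟩ := solve_linear (polar Q x y) (Q y) c (by rw [hxy]; exact hy₀)
      refine ⟨z • x + y, ?_, fun s => ?_⟩
      · rw [apply_add, apply_smul, h0, polar_smul_left', ← hz]; ring
      · rw [polar_add_left', polar_smul_left', hwP, hyP, mul_zero, add_zero]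
    · rcases norm_cases (Q x) c h0 hc with h | h
      · exact ⟨x, h, hwP⟩
      · refine ⟨x + ap g x, ?_, fun s => ?_⟩
        · rw [apply_add, OQ.map_apply, hg.perp, add_zero, h]
        · rw [polar_add_left', hwP, hperp x hwP, add_zero]
  refine ⟨Fin.snoc F a, ?_⟩
  have hgP := hperp a haP
  intro s t
  have key : ∀ u : Fin (j + 1) ⊕ Fin (j + 1),
      (∃ u', Sum.map Fin.castSucc Fin.castSucc u' = u) ∨ u = Sum.inl (Fin.last j) ∨ u = Sum.inr (Fin.last j) := by
    rintro (i | i) <;> rcases Fin.eq_castSucc_or_eq_last i with ⟨l, rfl⟩ | rfl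
    exacts [Or.inl ⟨Sum.inl l, rfl⟩, Or.inr (Or.inl rfl), Or.inl ⟨Sum.inr l, rfl⟩, Or.inr (Or.inr rfl)]
  have hval : ∀ u', Sum.elim (Fin.snoc F a) (fun i => ap g ((Fin.snoc F a : Fin (j + 1) → W) i))
      (Sum.map Fin.castSucc Fin.castSucc u') = e u' := by
    rintro (i | i) <;> simp [e]
  have hinj : Function.Injective (Sum.map (Fin.castSucc (n := j)) (Fin.castSucc (n := j))) :=
    Sum.map_injective.2 ⟨Fin.castSucc_injective _, Fin.castSucc_injective _⟩
  rcases key s with ⟨s', rfl⟩ | rfl | rfl <;> rcases key t with ⟨t', rfl⟩ | rfl | rfl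
  · rw [hval, hval, show (if Sum.map Fin.castSucc Fin.castSucc s' = Sum.map Fin.castSucc Fin.castSucc t'
        then 2 * c else 0) = if s' = t' then 2 * c else 0 by simp only [hinj.eq_iff]]
    exact hF s' t'
  · rw [hval, if_neg (by rcases s' with i | i <;> simp [Fin.castSucc_ne_last]), QuadraticMap.polar_comm]
    simpa using haP s'
  · rw [hval, if_neg (by rcases s' with i | i <;> simp [Fin.castSucc_ne_last]), QuadraticMap.polar_comm]
    simpa using hgP s'
  · rw [hval, if_neg (by rcases t' with i | i <;> simp [Ne.symm (Fin.castSucc_ne_last _)])]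
    simpa using haP t'
  · simp [ha]
  · simpa using hg.perp a
  · rw [hval, if_neg (by rcases t' with i | i <;> simp [Ne.symm (Fin.castSucc_ne_last _)])]
    simpa using hgP t'
  · simpa [QuadraticMap.polar_comm] using hg.perp a
  · simp [OQ.map_apply, ha]

theorem exists_frame_le {g : OQ Q} (hg : Cx g) :
    ∀ j : ℕ, 2 * j ≤ Module.finrank (ZMod 3) W + 1 → ∃ F : Fin j → W, Frame g c F
  | 0, _ => ⟨Fin.elim0, fun s => s.elim Fin.elim0 Fin.elim0⟩
  | j + 1, h => by
    obtain ⟨F, hF⟩ := exists_frame_le hg j (by omega)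
    exact hF.extend hQ hc hg (by omega)

/-- The dimension is even, with a full frame. -/
theorem exists_frame {g : OQ Q} (hg : Cx g) :
    ∃ (k : ℕ) (F : Fin k → W), Module.finrank (ZMod 3) W = 2 * k ∧ Frame g c F := by
  set n := Module.finrank (ZMod 3) W
  obtain ⟨F, hF⟩ := exists_frame_le hQ hc hg ((n + 1) / 2) (by omega)
  refine ⟨(n + 1) / 2, F, ?_, hF⟩
  have := (OrthFam.linearIndependent (e := Sum.elim F fun i => ap g (F i)) hF hc).fintype_card_le_finrank
  simp at this
  omega

theorem isConj {g g' : OQ Q} (hg : Cx g) (hg' : Cx g') : ∃ h : OQ Q, h * g * h⁻¹ = g' := by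
  obtain ⟨k, F, hn, hF⟩ := exists_frame hQ hc hg
  obtain ⟨F', hF'⟩ := exists_frame_le hQ hc hg' k (by omega)
  obtain ⟨h, hh⟩ := OrthFam.exists_isometry hQ (show OrthFam Q c _ from hF) (show OrthFam Q c _ from hF') hc
    (by simp; omega)
  refine ⟨h, ?_⟩
  rw [mul_inv_eq_iff_eq_mul]
  refine OrthFam.ext_isometry (show OrthFam Q c _ from hF) hc (by simp; omega) ?_
  rintro (i | i)
  · show ap h (ap g (F i)) = ap g' (ap h (F i))
    rw [show ap h (F i) = F' i from hh (Sum.inl i), show ap h (ap g (F i)) = ap g' (F' i) from hh (Sum.inr i)]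
  · show ap h (ap g (ap g (F i))) = ap g' (ap h (ap g (F i)))
    rw [show ap h (ap g (F i)) = ap g' (F' i) from hh (Sum.inr i), hg', hg, ← show ap h (F i) = F' i from hh (Sum.inl i)]
    exact map_neg (h : W ≃ₗ[ZMod 3] W) (F i)

omit hQ in
/-- Unit vectors on part of an orthogonal basis. -/
theorem card_part {κ : Type} [Fintype κ] [DecidableEq κ] [Fintype W] [DecidableEq W] {e : κ → W}
    (h : OrthFam Q c e) (hn : Fintype.card κ = Module.finrank (ZMod 3) W) (X : κ → Prop) [DecidablePred X]
    {d : ℕ} (hd : Fintype.card {s // X s} = d) :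
    (Finset.univ.filter fun b : W => Q b = c ∧ ∀ s, ¬ X s → polar Q b (e s) = 0).card = nn d := by
  classical
  have key : ∀ x : {s // X s} → ZMod 3,
      (∑ s, (if hs : X s then x ⟨s, hs⟩ else 0) * (if hs : X s then x ⟨s, hs⟩ else 0)) = ∑ u, x u * x u := by
    intro x
    symm
    refine Finset.sum_bij_ne_zero (fun u _ _ => u.1) (fun u _ _ => Finset.mem_univ _)
      (fun u _ _ u' _ _ h => Subtype.ext h) (fun s _ hs => ?_) (fun u _ _ => by simp [u.2])
    by_cases hX : X s
    · exact ⟨⟨s, hX⟩, Finset.mem_univ _, by simpa [hX] using hs, rfl⟩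
    · simp [hX] at hs
  let E : {b : W // Q b = c ∧ ∀ s, ¬ X s → polar Q b (e s) = 0} ≃ {x : {s // X s} → ZMod 3 // ∑ u, x u * x u = 1} :=
    { toFun := fun b => ⟨fun u => 2 * c * polar Q b.1 (e u), by
        rw [← key]
        have hb := h.norm_sum fun s => 2 * c * polar Q b.1 (e s)
        rw [← h.expand hc hn, b.2.1] at hb
        refine mul_left_cancel₀ hc (Eq.trans ?_ (mul_one c).symm)
        refine Eq.trans ?_ hb.symm
        congr 1
        refine Finset.sum_congr rfl fun s _ => ?_
        by_cases hX : X s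
        · simp [hX]
        · simp [hX, b.2.2 s hX]⟩
      invFun := fun x => ⟨∑ s, (if hs : X s then x.1 ⟨s, hs⟩ else 0) • e s,
        by rw [h.norm_sum, key, x.2, mul_one], fun s hs => by rw [h.polar_sum]; simp [hs]⟩
      left_inv := fun b => Subtype.ext (by
        conv_rhs => rw [h.expand hc hn b.1]
        refine Finset.sum_congr rfl fun s _ => ?_
        by_cases hX : X s
        · simp [hX]
        · simp [hX, b.2.2 s hX])
      right_inv := fun x => Subtype.ext (funext fun u => by
        show 2 * c * polar Q _ (e u.1) = _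
        rw [← h.coeff hc]
        simp [u.2]) }
  rw [← Fintype.card_subtype, Fintype.card_congr E, nn, ← hd]
  exact Fintype.card_congr (((Fintype.equivFin _).arrowCongr (Equiv.refl _)).subtypeEquiv fun x => by
    rw [← (Fintype.equivFin {s // X s}).symm.sum_comp]
    simp)

/-- The number of those agreeing with a frame on its first pairs. -/
theorem card_agree [Fintype W] [DecidableEq W] [Fintype (OQ Q)] : ∀ (r : ℕ) {k j : ℕ} (g : OQ Q) (F : Fin k → W), Cx g →
    Frame g c F → Module.finrank (ZMod 3) W = 2 * k → j + r = k →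
    {g' : OQ Q | Cx g' ∧ ∀ i : Fin k, (i : ℕ) < j → ap g' (F i) = ap g (F i)}.ncard = pp r := by
  classical
  intro r
  induction r with
  | zero =>
    intro k j g F hg hF hn hj
    rw [pp, Set.ncard_eq_one]
    refine ⟨g, Set.ext fun g' => ⟨fun ⟨hg', h⟩ => ?_, fun h => ?_⟩⟩
    swap
    · rw [Set.mem_singleton_iff] at h
      subst h
      exact ⟨hg, fun _ _ => rfl⟩
    refine Set.mem_singleton_iff.2 (OrthFam.ext_isometry (show OrthFam Q c _ from hF) hc (by simp; omega) ?_)
    rintro (i | i)
    · exact h i (by omega)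
    · show ap g' (ap g (F i)) = ap g (ap g (F i))
      rw [hg, ← h i (by omega), hg']
  | succ r ih =>
    intro k j g F hg hF hn hj
    set e := Sum.elim F fun i => ap g (F i) with he
    have hE : OrthFam Q c e := hF
    have hcard : Fintype.card (Fin k ⊕ Fin k) = Module.finrank (ZMod 3) W := by simp; omega
    let jj : Fin k := ⟨j, by omega⟩
    let X : Fin k ⊕ Fin k → Prop := Sum.elim (fun i => j < (i : ℕ)) fun i => j ≤ (i : ℕ)
    let T := Finset.univ.filter fun b : W => Q b = c ∧ ∀ s, ¬ X s → polar Q b (e s) = 0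
    let A := Finset.univ.filter fun g' : OQ Q => Cx g' ∧ ∀ i : Fin k, (i : ℕ) < j → ap g' (F i) = ap g (F i)
    have hA : {g' : OQ Q | Cx g' ∧ ∀ i : Fin k, (i : ℕ) < j → ap g' (F i) = ap g (F i)} = ↑A := by
      simp [A]
    have hX : Fintype.card {s // X s} = 2 * r + 1 := by
      rw [Fintype.card_congr Equiv.subtypeSum, Fintype.card_sum]
      have h1 : Fintype.card {i : Fin k // j < (i : ℕ)} = r := by
        rw [Fintype.card_subtype, show (Finset.univ.filter fun i : Fin k => j < (i : ℕ)) = Finset.Ioi jj by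
          ext i; simp [jj, Fin.lt_def], Fin.card_Ioi]
        simp [jj]; omega
      have h2 : Fintype.card {i : Fin k // j ≤ (i : ℕ)} = r + 1 := by
        rw [Fintype.card_subtype, show (Finset.univ.filter fun i : Fin k => j ≤ (i : ℕ)) = Finset.Ici jj by
          ext i; simp [jj, Fin.le_def], Fin.card_Ici]
        simp [jj]; omega
      simp only [← Nat.card_eq_fintype_card] at h1 h2 ⊢
      rw [show Nat.card {a // X (Sum.inl a)} = r from h1, show Nat.card {b // X (Sum.inr b)} = r + 1 from h2]
      omega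
    have hmaps : ∀ g' ∈ A, ap g' (F jj) ∈ T := by
      intro g' hg'
      obtain ⟨hg', hpre⟩ : Cx g' ∧ ∀ i : Fin k, (i : ℕ) < j → ap g' (F i) = ap g (F i) := by simpa [A] using hg'
      refine Finset.mem_filter.2 ⟨Finset.mem_univ _, by rw [ap, OQ.map_apply]; exact hE.norm (Sum.inl jj), ?_⟩
      rintro (i | i) hi
      · have hi' : (i : ℕ) ≤ j := not_lt.1 hi
        rcases hi'.lt_or_eq with hlt | heq
        · show polar Q (ap g' (F jj)) (F i) = 0
          rw [hg'.polar_left, hpre i hlt]
          have := hE (Sum.inl jj) (Sum.inr i)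
          simp [e] at this
          rw [this, neg_zero]
        · obtain rfl : i = jj := Fin.ext heq
          show polar Q (ap g' (F jj)) (F jj) = 0
          rw [QuadraticMap.polar_comm]; exact hg'.perp _
      · have hlt : (i : ℕ) < j := not_le.1 hi
        show polar Q (ap g' (F jj)) (ap g (F i)) = 0
        rw [← hpre i hlt, OQ.map_polar]
        have := hE (Sum.inl jj) (Sum.inl i)
        simp [e, Fin.ext_iff, jj, hlt.ne'] at this
        exact this
    have hfib : ∀ b ∈ T, (A.filter fun g' => ap g' (F jj) = b).card = pp r := by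
      intro b hb
      obtain ⟨hbc, hbP⟩ := (Finset.mem_filter.1 hb).2
      let U := Submodule.span (ZMod 3) (e '' {s | ¬ X s})
      have hU : ∀ u ∈ U, polar Q u b = 0 ∧ polar Q u (ap g (F jj)) = 0 := by
        intro u hu
        induction hu using Submodule.span_induction with
        | mem x hx =>
          obtain ⟨s, hs, rfl⟩ := hx
          refine ⟨by rw [QuadraticMap.polar_comm]; exact hbP s hs, ?_⟩
          have := hE s (Sum.inr jj)
          rw [if_neg (by rintro rfl; exact hs (le_refl j))] at this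
          exact this
        | zero => exact ⟨QuadraticMap.polar_zero_left _ _, QuadraticMap.polar_zero_left _ _⟩
        | add x y _ _ hx hy => exact ⟨by rw [polar_add_left', hx.1, hy.1, add_zero], by rw [polar_add_left', hx.2, hy.2, add_zero]⟩
        | smul t x _ hx => exact ⟨by rw [polar_smul_left', hx.1, mul_zero], by rw [polar_smul_left', hx.2, mul_zero]⟩
      have hgb : Q (ap g (F jj)) = c := hE.norm (Sum.inr jj)
      obtain ⟨h, hfix, hmove⟩ := witt_step hQ (U := U) (x := ap g (F jj)) (y := b)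
        (fun hm => mul_ne_zero two_ne hc (by have := (hU _ hm).2; rwa [polar_self', hgb] at this))
        (fun hm => mul_ne_zero two_ne hc (by have := (hU _ hm).1; rwa [polar_self', hbc] at this))
        (hbc.trans hgb.symm) (fun u hu => by rw [(hU u hu).1, (hU u hu).2])
      have hFi : ∀ i : Fin k, (i : ℕ) ≤ j → ap h (F i) = F i := fun i hi =>
        hfix _ (Submodule.subset_span ⟨Sum.inl i, not_lt.2 hi, rfl⟩)
      have hgFi : ∀ i : Fin k, (i : ℕ) < j → ap h (ap g (F i)) = ap g (F i) := fun i hi =>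
        hfix _ (Submodule.subset_span ⟨Sum.inr i, not_le.2 hi, rfl⟩)
      have hval : ∀ i, ap (h * g * h⁻¹) (ap h (F i)) = ap h (ap g (F i)) := fun i => by
        show (h : W ≃ₗ[ZMod 3] W) ((g : W ≃ₗ[ZMod 3] W) ((h : W ≃ₗ[ZMod 3] W).symm ((h : W ≃ₗ[ZMod 3] W) (F i)))) = _
        rw [LinearEquiv.symm_apply_apply]
      have := ih (k := k) (j := j + 1) (h * g * h⁻¹) (fun i => ap h (F i)) (hg.conj h) (hF.map h) hn (by omega)
      rw [← this, ← Set.ncard_coe_finset]
      congr 1
      ext g'
      simp only [A, Finset.coe_filter, Finset.mem_filter, Finset.mem_univ, true_and, Set.mem_ofPred_eq, hval]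
      constructor
      · rintro ⟨⟨hg', hpre⟩, hj'⟩
        refine ⟨hg', fun i hi => ?_⟩
        rw [hFi i (by omega)]
        rcases Nat.lt_or_eq_of_le (Nat.lt_succ_iff.1 hi) with hlt | heq
        · rw [hgFi i hlt]; exact hpre i hlt
        · obtain rfl : i = jj := Fin.ext heq
          rw [hj']; exact hmove.symm
      · rintro ⟨hg', hpre⟩
        refine ⟨⟨hg', fun i hi => ?_⟩, ?_⟩
        · have := hpre i (by omega)
          rwa [hFi i (by omega), hgFi i hi] at this
        · have := hpre jj (Nat.lt_succ_self j)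
          rw [hFi jj le_rfl, show ap h (ap g (F jj)) = b from hmove] at this
          exact this
    rw [hA, Set.ncard_coe_finset, Finset.card_eq_sum_card_fiberwise (t := T) (f := fun g' => ap g' (F jj)) hmaps,
      Finset.sum_congr rfl hfib, Finset.sum_const, smul_eq_mul, pp]
    rw [show T.card = nn (2 * r + 1) from card_part hc hE hcard X hX]

theorem ncard_cx [Finite W] {g : OQ Q} (hg : Cx g) {k : ℕ} (hn : Module.finrank (ZMod 3) W = 2 * k) :
    {g' : OQ Q | Cx g'}.ncard = pp k := by
  classical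
  letI := Fintype.ofFinite W
  haveI : Finite (W ≃ₗ[ZMod 3] W) := Finite.of_injective (fun f => (f : W → W)) DFunLike.coe_injective
  letI := Fintype.ofFinite (OQ Q)
  obtain ⟨F, hF⟩ := exists_frame_le hQ hc hg k (by omega)
  rw [← card_agree hQ hc k (j := 0) g F hg hF hn (by omega)]
  congr 1
  ext g'
  simp

end CfsgLib.ThreeTrans.Fischer.Disconnected.Three
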