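import Cfsg.Agent.Lib.ThreeTrans.Classification.Disconnected.Basic

/-!
The products of commuting pairs of a fibre: their number, and the quotient by the layer when all
swaps of one fibre are conjugate (owner: helper4).
-/

set_option autoImplicit false
set_option linter.unusedSectionVars false
set_option linter.style.haveILetI false
set_option linter.unusedVariables false

namespace CfsgLib.ThreeTrans.Fischer.Disconnected

open Cfsg RankThree

universe u

/-- A product of two commuting members determines the pair. -/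
def PairsInj {H : Type u} [Group H] (E : Set H) : Prop :=
  ∀ a ∈ E, ∀ b ∈ E, ∀ c ∈ E, ∀ e ∈ E, a ≠ b → Commute a b → c ≠ e → Commute c e → a * b = c * e →
    c = a ∨ c = b

/-- All swaps are conjugate. -/
def SwapTrans {H : Type u} [Group H] (E : Set H) : Prop :=
  ∀ v w, Swap E v → Swap E w → IsConj v w

section Pairs

variable {H : Type u} [Group H] [Finite H] {E : Set H}

open scoped _root_.Classical in
/-- The ordered commuting pairs of different members. -/
noncomputable def pairs (E : Set H) : Finset (H × H) :=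
  letI := Fintype.ofFinite H
  Finset.univ.filter fun p => p.1 ∈ E ∧ p.2 ∈ CoreNC.nb E p.1

theorem mem_pairs {p : H × H} : p ∈ pairs E ↔ p.1 ∈ E ∧ p.2 ∈ E ∧ p.2 ≠ p.1 ∧ Commute p.1 p.2 := by
  classical
  simp [pairs, CoreNC.nb]
  tauto

theorem card_pairs {k : ℕ} (hval : ∀ a ∈ E, (CoreNC.nb E a).ncard = k) : (pairs E).card = E.ncard * k := by
  classical
  letI := Fintype.ofFinite H
  rw [Finset.card_eq_sum_card_fiberwise (f := Prod.fst) (t := E.toFinset) (fun p hp => by
    simpa using (mem_pairs.1 hp).1), Finset.sum_congr rfl (g := fun _ => k) (fun a ha => ?_)]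
  · rw [Finset.sum_const, smul_eq_mul, Set.ncard_eq_toFinset_card']
  rw [← hval a (by simpa using ha), Set.ncard_eq_toFinset_card']
  refine Finset.card_bij (fun p _ => p.2) (fun p hp => ?_) (fun p hp q hq h => ?_) (fun b hb => ?_)
  · obtain ⟨hp', rfl⟩ := Finset.mem_filter.1 hp
    obtain ⟨-, h2, h3, h4⟩ := mem_pairs.1 hp'
    simp only [Set.mem_toFinset]
    exact ⟨h2, h3, h4⟩
  · exact Prod.ext ((Finset.mem_filter.1 hp).2.trans (Finset.mem_filter.1 hq).2.symm) h
  · simp only [Set.mem_toFinset] at hb ha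
    exact ⟨(a, b), Finset.mem_filter.2 ⟨mem_pairs.2 ⟨ha, hb.1, hb.2.1, hb.2.2⟩, rfl⟩, rfl⟩

open scoped _root_.Classical in
/-- The products. -/
noncomputable def prodsIn (E : Set H) : Finset H := (pairs E).image fun p => p.1 * p.2

theorem mem_prodsIn {w : H} : w ∈ prodsIn E ↔ ∃ p ∈ pairs E, p.1 * p.2 = w := by
  classical
  simp [prodsIn]

theorem two_mul_prods_le : 2 * (prodsIn E).card ≤ (pairs E).card := by
  classical
  refine Finset.mul_card_image_le_card _ _ fun w hw => ?_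
  obtain ⟨⟨a, b⟩, hab, rfl⟩ := Finset.mem_image.1 hw
  obtain ⟨ha, hb, hne, hc⟩ := mem_pairs.1 hab
  have hsub : ({(a, b), (b, a)} : Finset (H × H)) ⊆ (pairs E).filter fun p => p.1 * p.2 = a * b := by
    intro p hp
    rcases Finset.mem_insert.1 hp with rfl | hp
    · exact Finset.mem_filter.2 ⟨hab, rfl⟩
    · rw [Finset.mem_singleton] at hp
      subst hp
      exact Finset.mem_filter.2 ⟨mem_pairs.2 ⟨hb, ha, Ne.symm hne, hc.symm⟩, hc.eq.symm⟩
  refine le_trans (le_of_eq ?_) (Finset.card_le_card hsub)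
  rw [Finset.card_insert_of_notMem (by simpa using fun e _ => hne e.symm), Finset.card_singleton]

theorem pairs_le (hinj : PairsInj E) : (pairs E).card ≤ 2 * (prodsIn E).card := by
  classical
  refine Finset.card_le_mul_card_image _ _ fun w hw => ?_
  obtain ⟨⟨a, b⟩, hab, rfl⟩ := Finset.mem_image.1 hw
  obtain ⟨ha, hb, hne, hc⟩ := mem_pairs.1 hab
  refine le_trans (Finset.card_le_card (t := ({(a, b), (b, a)} : Finset (H × H))) ?_) Finset.card_le_two
  rintro ⟨c, e⟩ hp
  obtain ⟨hp, he⟩ := Finset.mem_filter.1 hp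
  obtain ⟨hc', he', hne', hce⟩ := mem_pairs.1 hp
  simp only [Finset.mem_insert, Finset.mem_singleton, Prod.mk.injEq]
  rcases hinj a ha b hb c hc' e he' (Ne.symm hne) hc (Ne.symm hne') hce he.symm with rfl | rfl
  · exact Or.inl ⟨rfl, mul_left_cancel he⟩
  · have he2 : c * e = a * c := he
    rw [hc.eq] at he2
    exact Or.inr ⟨rfl, mul_left_cancel he2⟩

end Pairs

namespace Ctx

variable {G : Type u} [Group G] [Finite G] {D : Set G} {L : Subgroup G} (C : Ctx D L)
include C

theorem fibre_congr {y z : G} (hy : y ∈ D) (hz : z ∈ fibre D L y) : fibre D L z = fibre D L y := by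
  ext x
  refine ⟨fun hx => C.mem_fibre_of_mul hz hx.1 hx.2, fun hx => ⟨hx.1, C.fibre_comm hy hz hx⟩⟩

theorem prods_congr {y z : G} (hy : y ∈ D) (hz : z ∈ fibre D L y) : prods D L z = prods D L y := by
  rw [prods, prods, C.fibre_congr hy hz]

theorem fibre_symm {d y : G} (hd : d ∈ D) (hy : y ∈ D) (hyd : y ∉ fibre D L d) : d ∉ fibre D L y :=
  fun h => hyd ⟨hy, by
    have := inv_mem h.2
    rwa [mul_inv_rev, inv_eq C.hS hy, inv_eq C.hS hd] at this⟩

theorem mem_or_mul {d g : G} (hd : d ∈ D) (hg : g ∈ loc₂ L d) : g ∈ L ∨ g * d ∈ L := by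
  haveI := C.normal
  obtain ⟨l, hl, z, hz, rfl⟩ := Subgroup.mem_sup_of_normal_left.1 hg
  obtain ⟨i, rfl⟩ := Subgroup.mem_zpowers_iff.1 hz
  rcases Int.even_or_odd i with ⟨j, rfl⟩ | ⟨j, rfl⟩
  · left
    rw [zpow_add, ← (Commute.refl d).mul_zpow, mul_self C.hS hd, one_zpow, mul_one]; exact hl
  · right
    rw [zpow_add_one, two_mul, zpow_add, ← (Commute.refl d).mul_zpow, mul_self C.hS hd, one_zpow, one_mul,
      mul_assoc, mul_self C.hS hd, mul_one]
    exact hl

/-- The products of one fibre form one class of `L`. -/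
theorem prods_conj {y v w : G} (hy : y ∈ D) (hv : v ∈ prods D L y) (hw : w ∈ prods D L y) :
    ∃ g ∈ L, g * v * g⁻¹ = w := by
  obtain ⟨⟨p, q⟩, ⟨hp, hq, hne, hpq⟩, rfl⟩ := hv
  obtain ⟨⟨r, s⟩, ⟨hr, hs, hne', hrs⟩, rfl⟩ := hw
  have S := C.setting hy
  obtain ⟨g, e⟩ := class_trans S.cls (show (⟨p, C.le_loc₂ hy hp⟩ : ↥(loc₂ L y)) ∈ fibreIn D L y from hp)
    (show (⟨r, C.le_loc₂ hy hr⟩ : ↥(loc₂ L y)) ∈ fibreIn D L y from hr)
  have e' : (g : G) * p * (g : G)⁻¹ = r := congrArg Subtype.val e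
  have hq' := C.fibre_conj hy hq g.2
  have hq'r : (g : G) * q * (g : G)⁻¹ ≠ r := fun h => hne (mul_left_cancel (mul_right_cancel (e'.trans h.symm)))
  have hcr : Commute r ((g : G) * q * (g : G)⁻¹) := e' ▸ commute_conj_iff.2 hpq
  obtain ⟨k, hkr, hk⟩ := S.commute_transitive
    (show (⟨r, C.le_loc₂ hy hr⟩ : ↥(loc₂ L y)) ∈ fibreIn D L y from hr)
    (show (⟨_, C.le_loc₂ hy hq'⟩ : ↥(loc₂ L y)) ∈ fibreIn D L y from hq')
    (fun h => hq'r (congrArg Subtype.val h)) (Subtype.ext hcr.eq)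
    (show (⟨s, C.le_loc₂ hy hs⟩ : ↥(loc₂ L y)) ∈ fibreIn D L y from hs)
    (fun h => hne' (congrArg Subtype.val h).symm) (Subtype.ext hrs.eq)
  set h : G := (k : G) * g with hh
  have hp' : h * p * h⁻¹ = r := by
    rw [hh, show (k : G) * g * p * ((k : G) * g)⁻¹ = k * ((g : G) * p * (g : G)⁻¹) * (k : G)⁻¹ by group, e',
      show (k : G) * r = r * k from congrArg Subtype.val hkr.eq, mul_inv_cancel_right]
  have hs' : h * q * h⁻¹ = s := by
    have := congrArg Subtype.val hk
    simp only [Subgroup.coe_mul, Subgroup.coe_inv] at this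
    rw [hh, ← this]
    group
  have hv' : h * (p * q) * h⁻¹ = r * s := by
    rw [← hp', ← hs']; group
  rcases C.mem_or_mul hy (mul_mem k.2 g.2 : h ∈ loc₂ L y) with hL | hL
  · exact ⟨h, hL, hv'⟩
  · refine ⟨h * p, ?_, ?_⟩
    · have := L.mul_mem hL hp.2
      rwa [← mul_assoc, mul_assoc h y y, mul_self C.hS hy, mul_one] at this
    · show h * p * (p * q) * (h * p)⁻¹ = r * s
      rw [← hv']
      calc h * p * (p * q) * (h * p)⁻¹ = h * (p * p) * (q * p⁻¹) * h⁻¹ := by group
        _ = h * (p * q) * h⁻¹ := by rw [mul_self C.hS hp.1, inv_eq C.hS hp.1, hpq.eq]; group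

theorem conjugate_mem {d y v : G} (hd : d ∈ D) (hy : y ∈ D) {hv' : v ∈ loc₂ L d} (hv : v ∈ prods D L y)
    {w : ↥(loc₂ L d)} (h : IsConj (⟨v, hv'⟩ : ↥(loc₂ L d)) w) :
    (w : G) ∈ prods D L y ∨ (w : G) ∈ prods D L (d * y * d⁻¹) := by
  obtain ⟨g, e⟩ := isConj_iff.1 h
  have e' : (g : G) * v * (g : G)⁻¹ = w := congrArg Subtype.val e
  have hmem : (w : G) ∈ prods D L ((g : G) * y * (g : G)⁻¹) := by
    rw [← C.prods_map hy]; exact ⟨v, hv, e'⟩
  rcases C.mem_or_mul hd g.2 with hL | hL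
  · left
    rwa [C.prods_congr hy (C.fibre_conj hy (C.fibre_self hy) (Subgroup.mem_sup_left hL))] at hmem
  · right
    have hy' := class_conj C.cls d y hy
    have := C.fibre_conj hy' (C.fibre_self hy') (Subgroup.mem_sup_left hL : (g : G) * d ∈ loc₂ L (d * y * d⁻¹))
    rw [show (g : G) * d * (d * y * d⁻¹) * ((g : G) * d)⁻¹ = (g : G) * (d * d) * y * (d * d)⁻¹ * (g : G)⁻¹ by group,
      mul_self C.hS hd, mul_one, inv_one, mul_one] at this
    rwa [C.prods_congr hy' this] at hmem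

theorem exists_swap {d : G} (hd : d ∈ D) : ∃ y ∈ D, y ∉ fibre D L d ∧ ∃ v ∈ prods D L y,
    ∃ h : v ∈ loc₂ L d, Swap (fibreIn D L d) ⟨v, h⟩ := by
  obtain ⟨y, hy, hyd⟩ := C.exists_other hd
  obtain ⟨g, hg, hgy, hc⟩ := (letI := C.normal; exists_commute_in_orbit C.cls widthOne C.qs hy)
  refine ⟨y, hy, hyd, y * (g * y * g⁻¹), ⟨(y, g * y * g⁻¹), ⟨C.fibre_self hy,
    C.fibre_conj hy (C.fibre_self hy) (Subgroup.mem_sup_left hg), Ne.symm hgy, hc⟩, rfl⟩, ?_⟩
  exact C.prods_swap hd hy hyd ⟨(y, g * y * g⁻¹), ⟨C.fibre_self hy,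
    C.fibre_conj hy (C.fibre_self hy) (Subgroup.mem_sup_left hg), Ne.symm hgy, hc⟩, rfl⟩

theorem ncard_prods {d y : G} (hd : d ∈ D) (hy : y ∈ D) : (prods D L y).ncard = (prods D L d).ncard := by
  obtain ⟨g, rfl⟩ := class_trans C.cls hd hy
  rw [← C.prods_map hd g]
  exact Set.ncard_image_of_injective _ fun a b h => mul_left_cancel (mul_right_cancel h)

theorem card_prodsIn {d : G} (hd : d ∈ D) : (prods D L d).ncard = (prodsIn (fibreIn D L d)).card := by
  classical
  have h : prods D L d = Subtype.val '' (↑(prodsIn (fibreIn D L d)) : Set ↥(loc₂ L d)) := by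
    ext w
    constructor
    · rintro ⟨⟨p, q⟩, ⟨hp, hq, hne, hpq⟩, rfl⟩
      refine ⟨⟨p, C.le_loc₂ hd hp⟩ * ⟨q, C.le_loc₂ hd hq⟩, ?_, rfl⟩
      exact Finset.mem_coe.2 (mem_prodsIn.2 ⟨(⟨p, C.le_loc₂ hd hp⟩, ⟨q, C.le_loc₂ hd hq⟩), mem_pairs.2
        ⟨hp, hq, fun e => hne (congrArg Subtype.val e).symm, Subtype.ext hpq.eq⟩, rfl⟩)
    · rintro ⟨w, hw, rfl⟩
      obtain ⟨⟨p, q⟩, hpq, rfl⟩ := mem_prodsIn.1 (Finset.mem_coe.1 hw)
      obtain ⟨hp, hq, hne, hc⟩ := mem_pairs.1 hpq
      exact ⟨((p : G), (q : G)), ⟨hp, hq, fun e => hne (Subtype.ext e).symm, congrArg Subtype.val hc.eq⟩, rfl⟩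
  rw [h, Set.ncard_image_of_injective _ Subtype.val_injective, Set.ncard_coe_finset]

/-- There are at most as many swaps as ordered commuting pairs. -/
theorem ncard_swap_le {d : G} (hd : d ∈ D) {k : ℕ} (hval : ∀ a ∈ fibreIn D L d, (CoreNC.nb (fibreIn D L d) a).ncard = k)
    (ht : SwapTrans (fibreIn D L d)) :
    {w | Swap (fibreIn D L d) w}.ncard ≤ (fibreIn D L d).ncard * k := by
  obtain ⟨y, hy, hyd, v, hv, hvL, hs⟩ := C.exists_swap hd
  have hsub : Subtype.val '' {w | Swap (fibreIn D L d) w} ⊆ prods D L y ∪ prods D L (d * y * d⁻¹) := by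
    rintro _ ⟨w, hw, rfl⟩
    exact C.conjugate_mem hd hy hv (ht _ _ hs hw)
  have h1 := (Set.ncard_le_ncard hsub (Set.toFinite _)).trans (Set.ncard_union_le _ _)
  rw [Set.ncard_image_of_injective _ Subtype.val_injective, C.ncard_prods hd hy,
    C.ncard_prods hd (class_conj C.cls d y hy), C.card_prodsIn hd] at h1
  have h2 := two_mul_prods_le (E := fibreIn D L d)
  rw [card_pairs hval] at h2
  omega

/-- There are at least half as many swaps as ordered commuting pairs. -/
theorem le_ncard_swap {d : G} (hd : d ∈ D) {k : ℕ} (hval : ∀ a ∈ fibreIn D L d, (CoreNC.nb (fibreIn D L d) a).ncard = k)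
    (hi : PairsInj (fibreIn D L d)) :
    (fibreIn D L d).ncard * k ≤ 2 * {w | Swap (fibreIn D L d) w}.ncard := by
  obtain ⟨y, hy, hyd, -⟩ := C.exists_swap hd
  have hsub : prods D L y ⊆ Subtype.val '' {w | Swap (fibreIn D L d) w} := fun v hv =>
    let ⟨h, hs⟩ := C.prods_swap hd hy hyd hv
    ⟨⟨v, h⟩, hs, rfl⟩
  have h1 := Set.ncard_le_ncard hsub (Set.toFinite _)
  rw [Set.ncard_image_of_injective _ Subtype.val_injective, C.ncard_prods hd hy, C.card_prodsIn hd] at h1
  have h2 := pairs_le hi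
  rw [card_pairs hval] at h2
  omega

/-- With one class of swaps there are three fibres. -/
theorem three_fibres {d : G} (hd : d ∈ D) (ht : SwapTrans (fibreIn D L d)) :
    ∃ y ∈ D, y ∉ fibre D L d ∧ ∀ z ∈ D, z ∈ fibre D L d ∨ z ∈ fibre D L y ∨ z ∈ fibre D L (d * y * d⁻¹) := by
  obtain ⟨y, hy, hyd, v, hv, hvL, hs⟩ := C.exists_swap hd
  refine ⟨y, hy, hyd, fun z hz => ?_⟩
  by_contra h
  simp only [not_or] at h
  obtain ⟨h1, h2, h3⟩ := h
  obtain ⟨g, hg, hgz, hc⟩ := (letI := C.normal; exists_commute_in_orbit C.cls widthOne C.qs hz)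
  have hw : z * (g * z * g⁻¹) ∈ prods D L z := ⟨(z, g * z * g⁻¹), ⟨C.fibre_self hz,
    C.fibre_conj hz (C.fibre_self hz) (Subgroup.mem_sup_left hg), Ne.symm hgz, hc⟩, rfl⟩
  obtain ⟨hwL, hsw⟩ := C.prods_swap hd hz h1 hw
  rcases C.conjugate_mem hd hy hv (ht _ _ hs hsw) with h | h
  · exact C.prods_disjoint hy hz h2 h hw
  · exact C.prods_disjoint (class_conj C.cls d y hy) hz h3 h hw

theorem quotient_sym3 {d : G} (hd : d ∈ D) (ht : SwapTrans (fibreIn D L d)) [L.Normal] :
    Nonempty (G ⧸ L ≃* Equiv.Perm (Fin 3)) := by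
  obtain ⟨y, hy, hyd, hall⟩ := C.three_fibres hd ht
  let π := QuotientGroup.mk' L
  have hsame : ∀ p q : G, p ∈ D → q ∈ fibre D L p → π q = π p := fun p q hp hq => by
    have h1 : π (p * q) = 1 := (QuotientGroup.eq_one_iff _).2 hq.2
    rw [map_mul] at h1
    rw [eq_inv_of_mul_eq_one_right h1, ← map_inv, inv_eq C.hS hp]
  set a := π d with ha
  set b := π y with hb
  have haa : a * a = 1 := by rw [ha, ← map_mul, mul_self C.hS hd, map_one]
  have hbb : b * b = 1 := by rw [hb, ← map_mul, mul_self C.hS hy, map_one]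
  have hab : a * b ≠ 1 := by
    rw [ha, hb, ← map_mul]
    exact fun h => hyd ⟨hy, (QuotientGroup.eq_one_iff _).1 h⟩
  have hn : ¬ Commute d y := C.not_commute (C.fibre_self hd) hy hyd
  have hbr : a * b * a = b * a * b := by
    simp only [ha, hb, ← map_mul, braid C.hS hd hy hn]
  have hab3 : (a * b) ^ 3 = 1 := by
    rw [ha, hb, ← map_mul, ← map_pow, pow_three C.hS hd hy hn, map_one]
  have c1 : ∀ x, a * (a * x) = x := fun x => by rw [← mul_assoc, haa, one_mul]
  have c2 : ∀ x, b * (b * x) = x := fun x => by rw [← mul_assoc, hbb, one_mul]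
  -- the six elements
  let T : Set (G ⧸ L) := {1, a, b, a * b, b * a, a * b * a}
  have hT : ∀ x ∈ T, a * x ∈ T ∧ b * x ∈ T := by
    intro x hx
    simp only [T, Set.mem_insert_iff, Set.mem_singleton_iff] at hx ⊢
    rcases hx with rfl | rfl | rfl | rfl | rfl | rfl
    · simp
    · exact ⟨Or.inl haa, by simp⟩
    · exact ⟨by simp, Or.inl hbb⟩
    · refine ⟨by simp [c1], ?_⟩
      rw [← mul_assoc, ← hbr]; simp
    · exact ⟨by simp [← mul_assoc], by simp [c2]⟩
    · refine ⟨by simp [mul_assoc, c1], ?_⟩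
      rw [hbr]; simp [mul_assoc, c2]
  have hall' : ∀ x : G ⧸ L, x ∈ T := by
    intro x
    obtain ⟨g, rfl⟩ := QuotientGroup.mk'_surjective L x
    have hg : g ∈ Subgroup.closure D := C.cls.2.2 ▸ Subgroup.mem_top g
    have hstep : ∀ z ∈ D, ∀ w ∈ T, π z * w ∈ T := by
      intro z hz w hw
      rcases hall z hz with h | h | h
      · rw [hsame d z hd h]; exact (hT w hw).1
      · rw [hsame y z hy h]; exact (hT w hw).2
      · rw [hsame _ z (class_conj C.cls d y hy) h, map_mul, map_mul, map_inv, inv_eq_of_mul_eq_one_right haa,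
          mul_assoc, mul_assoc]
        exact (hT _ (hT _ (hT w hw).1).2).1
    induction hg using Subgroup.closure_induction_left with
    | one => simp [T]
    | mul_left z hz p hp ih => rw [map_mul]; exact hstep z hz _ ih
    | inv_mul_cancel z hz p hp ih => rw [map_mul, inv_eq C.hS hz]; exact hstep z hz _ ih
  have hcard : Nat.card (G ⧸ L) ≤ 6 := by
    classical
    letI := Fintype.ofFinite (G ⧸ L)
    have hsub : (Finset.univ : Finset (G ⧸ L)) ⊆ {1, a, b, a * b, b * a, a * b * a} := fun x _ => by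
      simpa [T] using hall' x
    rw [Nat.card_eq_fintype_card]
    exact (Finset.card_le_card hsub).trans Finset.card_le_six
  haveI : Fact (Nat.Prime 2) := ⟨Nat.prime_two⟩
  haveI : Fact (Nat.Prime 3) := ⟨Nat.prime_three⟩
  have hane : a ≠ 1 := fun h => C.d_notMem hd ((QuotientGroup.eq_one_iff _).1 h)
  have ho2 : orderOf a = 2 := orderOf_eq_prime (by rw [pow_two, haa]) hane
  have ho3 : orderOf (a * b) = 3 := orderOf_eq_prime hab3 hab
  have h6 : Nat.card (G ⧸ L) = 6 := by
    have h23 : 6 ∣ Nat.card (G ⧸ L) := by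
      have h2 := orderOf_dvd_natCard a
      have h3 := orderOf_dvd_natCard (a * b)
      rw [ho2] at h2; rw [ho3] at h3
      omega
    have := Nat.le_of_dvd Nat.card_pos h23
    omega
  let K := Subgroup.zpowers a
  have hidx : Nat.card ((G ⧸ L) ⧸ K) = 3 := by
    have := Subgroup.card_eq_card_quotient_mul_card_subgroup K
    rw [h6, Nat.card_zpowers, ho2] at this
    omega
  have hcore : K.normalCore = ⊥ := by
    rw [eq_bot_iff]
    intro x hx
    have hxK : x ∈ K := Subgroup.normalCore_le K hx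
    have hbx : b * x * b⁻¹ ∈ K := hx b
    have hmem : ∀ z ∈ K, z = 1 ∨ z = a := by
      intro z hz
      obtain ⟨i, rfl⟩ := Subgroup.mem_zpowers_iff.1 hz
      rcases Int.even_or_odd i with ⟨j, rfl⟩ | ⟨j, rfl⟩
      · left; rw [zpow_add, ← (Commute.refl a).mul_zpow, haa, one_zpow]
      · right; rw [zpow_add_one, two_mul, zpow_add, ← (Commute.refl a).mul_zpow, haa, one_zpow, one_mul]
    rcases hmem x hxK with rfl | rfl
    · exact Subgroup.one_mem _
    rcases hmem _ hbx with h | h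
    · exact absurd (conj_eq_one_iff.1 h) hane
    · exfalso
      rw [mul_inv_eq_iff_eq_mul] at h
      have hc : a * b * a = b := by rw [mul_assoc, h, c1]
      rw [hbr] at hc
      have h1 : a * b = 1 := by
        have := congrArg (fun t => b * t) hc
        simpa [mul_assoc, c2, hbb] using this
      exact hab h1
  let φ := MulAction.toPermHom (G ⧸ L) ((G ⧸ L) ⧸ K)
  have hφ : Function.Injective φ := by
    rw [← MonoidHom.ker_eq_bot_iff, ← Subgroup.normalCore_eq_ker, hcore]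
  have hbij : Function.Bijective φ := by
    refine (Nat.bijective_iff_injective_and_card φ).2 ⟨hφ, ?_⟩
    rw [h6, Nat.card_perm, hidx]; rfl
  exact ⟨(MulEquiv.ofBijective φ hbij).trans
    (Finite.equivFinOfCardEq hidx).permCongrHom⟩

end Ctx

end CfsgLib.ThreeTrans.Fischer.Disconnected
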