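import Cfsg.Agent.Lib.ThreeTrans.Classification.Disconnected.Refl
import Cfsg.Agent.Lib.Classical.Quad.POmega

/-!
In dimension eight the derived group of the projective reflection group is the simple hyperbolic
orthogonal group (owner: helper4).
-/

set_option autoImplicit false
set_option linter.unusedSectionVars false
set_option linter.style.haveILetI false

namespace CfsgLib.ThreeTrans.Fischer.Disconnected.Three

open CfsgLib.Classical CfsgLib.Classical.Quad CfsgLib.ThreeTrans.ReflectionsF3
open QuadraticMap (polar polarBilin)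

universe u

theorem four_sq : ∀ c : ZMod 3, c ≠ 0 → 4 * (c * c) = 1 := by decide

/-- A perfect group mapping onto a simple group with central kernel. -/
theorem quot_center_equiv {C C' : Type*} [Group C] [Group C'] {L : Type u} [Group L] [IsSimpleGroup L]
    (p : C' →* L) (hp : Function.Surjective p) (hker : p.ker ≤ Subgroup.center C') (e : C ≃* C')
    (hperf : commutator C = ⊤) : Nonempty (C ⧸ Subgroup.center C ≃* L) := by
  let q : C →* L := p.comp e.toMonoidHom
  have hq : Function.Surjective q := hp.comp e.surjective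
  have hk : q.ker = Subgroup.center C := by
    refine le_antisymm (fun x hx => Subgroup.mem_center_iff.2 fun y => e.injective ?_) (fun x hx => ?_)
    · rw [map_mul, map_mul]
      exact Subgroup.mem_center_iff.1 (hker hx) _
    · have hcen : q x ∈ Subgroup.center L := Subgroup.mem_center_iff.2 fun y => by
        obtain ⟨z, rfl⟩ := hq y
        rw [← map_mul, ← map_mul, Subgroup.mem_center_iff.1 hx z]
      rcases IsSimpleGroup.eq_bot_or_eq_top_of_normal (Subgroup.center L) inferInstance with h | h
      · rw [h] at hcen; exact Subgroup.mem_bot.1 hcen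
      · exfalso
        have hm : (commutator C).map q = ⁅(⊤ : Subgroup L), ⊤⁆ := by
          rw [commutator_def, Subgroup.map_commutator, Subgroup.map_top_of_surjective _ hq]
        have hbot : (⁅(⊤ : Subgroup L), ⊤⁆ : Subgroup L) = ⊥ := by
          rw [Subgroup.commutator_eq_bot_iff_le_centralizer]
          intro a _
          exact Subgroup.mem_centralizer_iff.2 fun b _ => Subgroup.mem_center_iff.1 (h ▸ Subgroup.mem_top a) b
        rw [hperf, Subgroup.map_top_of_surjective _ hq, hbot] at hm
        obtain ⟨y, hy⟩ := exists_ne (1 : L)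
        exact hy (Subgroup.mem_bot.1 (hm ▸ Subgroup.mem_top y))
  exact ⟨(QuotientGroup.quotientMulEquivOfEq hk.symm).trans (QuotientGroup.quotientKerEquivOfSurjective q hq)⟩

variable [Fact (Nat.Prime 3)] {Q : QuadraticForm (ZMod 3) (Fin 8 → ZMod 3)} {c : ZMod 3}
  (hQ : (polarBilin Q).Nondegenerate) (hc : c ≠ 0)

/-- The coordinates of a hyperbolic basis in an orthogonal one. -/
def coef (c : ZMod 3) (v : Fin 4 ⊕ Fin 4 → ZMod 3) : Fin 4 ⊕ Fin 4 → ZMod 3 :=
  let x := fun i => v (Sum.inl i)
  let y := fun i => 2 * c * v (Sum.inr i)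
  Sum.elim ![x 0 + x 1 + (y 0 + y 1), x 0 - x 1 + (y 0 - y 1), x 0 - y 0, x 1 - y 1]
    ![x 2 + x 3 + (y 2 + y 3), x 2 - x 3 + (y 2 - y 3), x 2 - y 2, x 3 - y 3]

theorem coef_add (v w : Fin 4 ⊕ Fin 4 → ZMod 3) : coef c (v + w) = coef c v + coef c w := by
  funext s
  rcases s with i | i <;> fin_cases i <;> simp [coef] <;> ring

theorem coef_smul (t : ZMod 3) (v : Fin 4 ⊕ Fin 4 → ZMod 3) : coef c (t • v) = t • coef c v := by
  funext s
  rcases s with i | i <;> fin_cases i <;> simp [coef] <;> ring

include hc in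
theorem coef_norm (v : Fin 4 ⊕ Fin 4 → ZMod 3) :
    c * ∑ s, coef c v s * coef c v s = qPlus 4 (ZMod 3) v := by
  rw [coe_qPlus]
  simp only [Cfsg.quadFormPlus, Fintype.sum_sum_type, Fin.sum_univ_four, coef, Sum.elim_inl, Sum.elim_inr,
    Matrix.cons_val_zero, Matrix.cons_val_one, Matrix.cons_val_two, Matrix.cons_val_three, Matrix.head_cons,
    Matrix.tail_cons]
  linear_combination
    (v (.inl 0) * v (.inr 0) + v (.inl 1) * v (.inr 1) + v (.inl 2) * v (.inr 2) + v (.inl 3) * v (.inr 3)) *
      four_sq c hc +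
    (c * (v (.inl 0) * v (.inl 0) + v (.inl 1) * v (.inl 1) + v (.inl 2) * v (.inl 2) + v (.inl 3) * v (.inl 3)) +
      c * (2 * c) * (2 * c) * (v (.inr 0) * v (.inr 0) + v (.inr 1) * v (.inr 1) + v (.inr 2) * v (.inr 2) +
        v (.inr 3) * v (.inr 3))) * three_zero

include hQ hc in
theorem exists_plus {g : OQ Q} (hg : Cx g) :
    ∃ φ : (Fin 4 ⊕ Fin 4 → ZMod 3) ≃ₗ[ZMod 3] (Fin 8 → ZMod 3), ∀ v, Q (φ v) = qPlus 4 (ZMod 3) v := by
  obtain ⟨F, hF⟩ := exists_frame_le hQ hc hg 4 (by simp)
  set e := Sum.elim F fun i => ap g (F i)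
  let f : (Fin 4 ⊕ Fin 4 → ZMod 3) →ₗ[ZMod 3] (Fin 8 → ZMod 3) :=
    { toFun := fun v => ∑ s, coef c v s • e s
      map_add' := fun v w => by simp [coef_add, add_smul, Finset.sum_add_distrib]
      map_smul' := fun t v => by simp [coef_smul, smul_smul, Finset.smul_sum] }
  have hq : ∀ v, Q (f v) = qPlus 4 (ZMod 3) v := fun v => by
    show Q (∑ s, coef c v s • e s) = _
    rw [OrthFam.norm_sum hF, coef_norm hc]
  have hinj : Function.Injective f := by
    rw [injective_iff_map_eq_zero]
    intro v hv
    refine eq_zero_of_polar (qPlus_nondeg 4) fun w => ?_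
    simp only [polar, ← hq, map_add, hv]
    simp
  exact ⟨LinearEquiv.ofInjectiveOfFinrankEq f hinj (by simp), hq⟩

include hQ hc in
theorem commutator_OQ_eq : commutator (OQ Q) =
    (commutator ↥(Cfsg.reflectionSubgroup (⇑Q) c)).map (toOQ (Q := Q) (c := c)) := by
  have hidx : (classReflGroup Q c).index = 2 := by
    have := index_eq_two (Q := Q) (by norm_num) hQ hc
    rwa [reflectionSubgroup_eq Q hc,
      Subgroup.index_comap_of_surjective _ (f := (oEquiv Q).toMonoidHom) (oEquiv Q).surjective] at this
  haveI := classReflGroup_normal (Q := Q) c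
  haveI : Finite ((Fin 8 → ZMod 3) ≃ₗ[ZMod 3] (Fin 8 → ZMod 3)) :=
    Finite.of_injective _ DFunLike.coe_injective
  have hle : commutator (OQ Q) ≤ classReflGroup Q c := commutator_le_of_index_le_two hidx.le
  have hperf := commutator_Omega_eq_top (Q := Q) hQ (by simp)
  rw [commutator_def ↥(Cfsg.reflectionSubgroup (⇑Q) c), Subgroup.map_commutator, ← MonoidHom.range_eq_map,
    toOQ_range hc]
  refine le_antisymm ?_ ?_
  · calc commutator (OQ Q) = (commutator (commutator (OQ Q))).map (commutator (OQ Q)).subtype := by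
          rw [hperf, ← MonoidHom.range_eq_map, Subgroup.range_subtype]
      _ = ⁅commutator (OQ Q), commutator (OQ Q)⁆ := by
          rw [commutator_def (↥(commutator (OQ Q))), Subgroup.map_commutator, ← MonoidHom.range_eq_map,
            Subgroup.range_subtype]
      _ ≤ _ := Subgroup.commutator_mono hle hle
  · exact Subgroup.commutator_mono le_top le_top

include hQ hc in
theorem nonempty_pomega {v : RQ Q c} (hv : Swap (EQ Q c) v) {L : Type u} [Group L] [IsSimpleGroup L]
    (φ : L ≃* ↥(commutator (RQ Q c))) :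
    Nonempty (L ≃* Cfsg.POmega (ZMod 3) (Cfsg.quadFormPlus 4 (ZMod 3))) := by
  obtain ⟨r, -, hr⟩ := swap_lift hQ hc (by norm_num) hv
  obtain ⟨ψ, hψ⟩ := exists_plus hQ hc hr
  let eO : OQ (qPlus 4 (ZMod 3)) ≃* OQ Q :=
    isoCongrEq (f := fun u _ => qPlus 4 (ZMod 3) u) (f' := fun u _ => Q u) ψ fun u _ => hψ u
  have hcomm : (commutator (OQ (qPlus 4 (ZMod 3)))).map eO.toMonoidHom = commutator (OQ Q) := by
    rw [commutator_def, commutator_def, Subgroup.map_commutator, Subgroup.map_top_of_surjective _ eO.surjective]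
  let eC : commutator (OQ (qPlus 4 (ZMod 3))) ≃* commutator (OQ Q) :=
    (eO.subgroupMap _).trans (MulEquiv.subgroupCongr hcomm)
  -- the derived reflection group onto `L`
  set R := ↥(Cfsg.reflectionSubgroup (⇑Q) c)
  let eR : commutator R ≃* commutator (OQ Q) :=
    ((commutator R).equivMapOfInjective toOQ toOQ_injective).trans
      (MulEquiv.subgroupCongr (commutator_OQ_eq hQ hc).symm)
  have himg : (commutator R).map (QuotientGroup.mk' (Subgroup.center R)) = commutator (RQ Q c) := by
    rw [commutator_def, commutator_def, Subgroup.map_commutator,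
      Subgroup.map_top_of_surjective _ (QuotientGroup.mk'_surjective _)]
  let p : commutator R →* L :=
    φ.symm.toMonoidHom.comp ((MulEquiv.subgroupCongr himg).toMonoidHom.comp
      ((QuotientGroup.mk' (Subgroup.center R)).subgroupMap (commutator R)))
  have hp : Function.Surjective p :=
    φ.symm.surjective.comp ((MulEquiv.subgroupCongr himg).surjective.comp
      (MonoidHom.subgroupMap_surjective _ _))
  have hker : p.ker ≤ Subgroup.center (commutator R) := fun x hx => by
    have h1 := φ.symm.map_eq_one_iff.1 hx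
    have h2 : (x : R) ∈ Subgroup.center R := (QuotientGroup.eq_one_iff _).1 (congrArg Subtype.val h1)
    exact Subgroup.mem_center_iff.2 fun y => Subtype.ext (Subgroup.mem_center_iff.1 h2 y)
  obtain ⟨E⟩ := quot_center_equiv p hp hker (eC.trans eR.symm)
    (commutator_Omega_eq_top (qPlus_nondeg (F := ZMod 3) 4) (by simp))
  exact ⟨((pOmegaEquiv (qPlus 4 (ZMod 3))).trans E).symm⟩

end CfsgLib.ThreeTrans.Fischer.Disconnected.Three
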