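import Cfsg.Agent.Lib.ThreeTrans.Classification.Disconnected.Count

/-!
Swaps along isomorphisms (owner: helper4).
-/

set_option autoImplicit false

namespace CfsgLib.ThreeTrans.Fischer.Disconnected

open Cfsg

universe u w

variable {H : Type u} [Group H] {K : Type w} [Group K] (e : H ≃* K) {E : Set H}

theorem swap_image {v : H} : Swap (e '' E) (e v) ↔ Swap E v := by
  constructor
  · rintro ⟨h1, h2, h3⟩
    refine ⟨e.injective (by rw [map_mul, map_one, h1]), fun h => h2 (by rw [h, map_one]), fun x hx => ?_⟩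
    obtain ⟨h4, h5⟩ := h3 _ ⟨x, hx, rfl⟩
    refine ⟨fun h => h4 (by rw [← map_mul, ← map_mul, h]), e.injective ?_⟩
    rw [map_mul, map_mul, map_mul, map_mul, map_mul, map_mul]
    exact h5.eq
  · rintro ⟨h1, h2, h3⟩
    refine ⟨by rw [← map_mul, h1, map_one], fun h => h2 (e.injective (by rw [h, map_one])), ?_⟩
    rintro _ ⟨x, hx, rfl⟩
    obtain ⟨h4, h5⟩ := h3 x hx
    rw [← map_mul, ← map_mul]
    exact ⟨fun h => h4 (e.injective h), h5.map e⟩

theorem ncard_swap_image : {v | Swap (e '' E) v}.ncard = {v | Swap E v}.ncard := by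
  rw [← Set.ncard_image_of_injective {v | Swap E v} e.injective]
  congr 1
  ext w
  obtain ⟨v, rfl⟩ := e.surjective w
  simp [swap_image e]

theorem swapTrans_image (h : SwapTrans (e '' E)) : SwapTrans E := fun v w hv hw => by
  obtain ⟨g, hg⟩ := isConj_iff.1 (h (e v) (e w) ((swap_image e).2 hv) ((swap_image e).2 hw))
  obtain ⟨g, rfl⟩ := e.surjective g
  exact isConj_iff.2 ⟨g, e.injective (by rw [map_mul, map_mul, map_inv, hg])⟩

theorem pairsInj_image (h : PairsInj (e '' E)) : PairsInj E := by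
  intro a ha b hb c hc d hd hab hcab hcd hccd heq
  rcases h (e a) ⟨a, ha, rfl⟩ (e b) ⟨b, hb, rfl⟩ (e c) ⟨c, hc, rfl⟩ (e d) ⟨d, hd, rfl⟩
    (fun h => hab (e.injective h)) (hcab.map e) (fun h => hcd (e.injective h)) (hccd.map e)
    (by rw [← map_mul, ← map_mul, heq]) with h | h
  exacts [Or.inl (e.injective h), Or.inr (e.injective h)]

end CfsgLib.ThreeTrans.Fischer.Disconnected
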