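import Cfsg.Agent.Lib.ThreeTrans.Classification.Disconnected.Complex2
import Cfsg.Agent.Lib.ThreeTrans.Classification.Disconnected.Transport
import Cfsg.Agent.Lib.ThreeTrans.OrthTransTwo

/-!
The swaps of the class of orthogonal transvections over the field with two elements (owner: helper4).
-/

set_option autoImplicit false
set_option linter.unusedSectionVars false
set_option linter.style.haveILetI false

namespace CfsgLib.ThreeTrans.Fischer.Disconnected.Two

open CfsgLib.Classical CfsgLib.Classical.Quad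
open QuadraticMap (polar polarBilin)
open scoped Matrix

/-- The transvections of the linear isometry group. -/
def E2 {ι : Type} [Fintype ι] (Q : QuadraticForm (ZMod 2) (ι → ZMod 2)) [Fact (Nat.Prime 2)] : Set (OQ Q) :=
  {t | ∃ (v : ι → ZMod 2) (hv : Q v ≠ 0), t = Quad.refl hv}

/-- The transvections of the isometry group of matrices. -/
def EM {ι : Type} [Fintype ι] [DecidableEq ι] [Fact (Nat.Prime 2)] (Q : (ι → ZMod 2) → ZMod 2) :
    Set ↥(Cfsg.isometryGroup (ZMod 2) Q) :=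
  {g | (((g : GL ι (ZMod 2)) : Matrix ι ι (ZMod 2)) - 1).rank = 1}

theorem flip_one : ∀ t : ZMod 2, t = 1 ↔ ¬ t + 1 = 1 := by decide

variable [Fact (Nat.Prime 2)] {ι : Type} [Fintype ι] [DecidableEq ι] {Q : QuadraticForm (ZMod 2) (ι → ZMod 2)}
  (hQ : (polarBilin Q).Nondegenerate)

include hQ

theorem image_EM : (oEquiv Q) '' EM ⇑Q = E2 Q := by
  ext t
  constructor
  · rintro ⟨g, hg, rfl⟩
    obtain ⟨v, hv, rfl⟩ := (OrthTransTwo.mem_iff hQ).1 hg
    exact ⟨v, hv, MulEquiv.apply_symm_apply _ _⟩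
  · rintro ⟨v, hv, rfl⟩
    exact ⟨(oEquiv Q).symm (Quad.refl hv), OrthTransTwo.rank_refl hQ hv, MulEquiv.apply_symm_apply _ _⟩

theorem refl_inj {a b : ι → ZMod 2} (ha : Q a ≠ 0) (hb : Q b ≠ 0)
    (h : (Quad.refl ha : OQ Q) = Quad.refl hb) : a = b := by
  obtain ⟨x, hx⟩ : ∃ x, polar Q x a ≠ 0 := by
    by_contra hall
    push Not at hall
    have := eq_zero_of_polar hQ fun x => (QuadraticMap.polar_comm (⇑Q) a x).trans (hall x)
    exact ha (by rw [this, QuadraticMap.map_zero])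
  have h1 := congrArg (fun g : OQ Q => ap g x) h
  simp only [ap, refl_apply, eq_one_of_ne_zero _ ha, eq_one_of_ne_zero _ hb, inv_one, one_mul,
    eq_one_of_ne_zero _ hx, one_smul, sub_right_inj] at h1
  by_cases hp : polar Q x b = 0
  · rw [hp, zero_smul] at h1
    exact absurd (by rw [h1, QuadraticMap.map_zero]) ha
  · rwa [eq_one_of_ne_zero _ hp, one_smul] at h1

theorem commute_iff {a b : ι → ZMod 2} (ha : Q a ≠ 0) (hb : Q b ≠ 0) :
    Commute (Quad.refl ha : OQ Q) (Quad.refl hb) ↔ polar Q a b = 0 := by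
  have hc := refl_conj (Quad.refl ha : OQ Q) hb
  have happ : ap (Quad.refl ha : OQ Q) b = b - polar Q b a • a := by
    rw [ap, refl_apply, eq_one_of_ne_zero _ ha, inv_one, one_mul]
  constructor
  · intro h
    rw [h.eq, mul_inv_cancel_right] at hc
    have h1 := refl_inj hQ hb _ hc
    rw [show (Quad.refl ha : (ι → ZMod 2) ≃ₗ[ZMod 2] (ι → ZMod 2)) b = _ from happ, eq_comm, sub_eq_self,
      smul_eq_zero] at h1
    rcases h1 with h1 | h1
    · rwa [QuadraticMap.polar_comm]
    · exact absurd (by rw [h1, QuadraticMap.map_zero]) ha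
  · intro h
    have hb' : ap (Quad.refl ha : OQ Q) b = b := by rw [happ, QuadraticMap.polar_comm, h, zero_smul, sub_zero]
    simp only [show (Quad.refl ha : (ι → ZMod 2) ≃ₗ[ZMod 2] (ι → ZMod 2)) b = b from hb'] at hc
    exact mul_inv_eq_iff_eq_mul.1 hc

theorem swap_iff (hn : 3 ≤ Fintype.card ι) {g : OQ Q} : Swap (E2 Q) g ↔ Tot g := by
  have hconj : ∀ (g : OQ Q) {a : ι → ZMod 2} (ha : Q a ≠ 0), g⁻¹ = g →
      g * Quad.refl ha * g = Quad.refl (v := ap g a) (by rwa [ap, OQ.map_apply]) := fun g a ha hinv => by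
    have := refl_conj g ha
    rwa [hinv] at this
  constructor
  · rintro ⟨h1, -, h3⟩
    have hinv : g⁻¹ = g := inv_eq_of_mul_eq_one_right h1
    refine ⟨fun x => ?_, fun a ha => ?_⟩
    · show ap (g * g) x = x
      rw [h1]; rfl
    · obtain ⟨hne, hcom⟩ := h3 _ ⟨a, ha, rfl⟩
      rw [hconj g ha hinv] at hne hcom
      exact ⟨fun e => hne (by simp only [e]), (commute_iff hQ ha _).1 hcom⟩
  · intro hg
    have h1 : g * g = 1 := Subtype.ext (LinearEquiv.ext hg.1)
    have hinv : g⁻¹ = g := inv_eq_of_mul_eq_one_right h1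
    refine ⟨h1, fun h => ?_, ?_⟩
    · obtain ⟨a, ha, -⟩ := exists_nonsingular_perp' hQ (by rwa [Module.finrank_pi]) (0 : ι → ZMod 2)
      exact (hg.2 a ha).1 (by rw [h]; rfl)
    · rintro _ ⟨a, ha, rfl⟩
      rw [hconj g ha hinv]
      exact ⟨fun e => (hg.2 a ha).1 (refl_inj hQ _ ha e), (commute_iff hQ ha _).2 (hg.2 a ha).2⟩

theorem swapTrans (hn : 3 ≤ Fintype.card ι) : SwapTrans (EM ⇑Q) := by
  refine swapTrans_image (oEquiv Q) ?_
  rw [image_EM hQ]
  intro v w hv hw
  exact isConj_iff.2 (Two.isConj hQ (by rwa [Module.finrank_pi]) ((swap_iff hQ hn).1 hv) ((swap_iff hQ hn).1 hw))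

theorem ncard_swap_EM (hn : 3 ≤ Fintype.card ι) :
    {v | Swap (EM ⇑Q) v}.ncard = {g : OQ Q | Tot g}.ncard := by
  rw [← ncard_swap_image (oEquiv Q), image_EM hQ]
  congr 1
  ext g
  exact swap_iff hQ hn

theorem ncard_E2 : (E2 Q).ncard = {v : ι → ZMod 2 | Q v ≠ 0}.ncard := by
  symm
  refine Set.ncard_congr (fun v hv => Quad.refl (Q := Q) (v := v) hv) (fun v hv => ⟨v, hv, rfl⟩)
    (fun v w hv hw h => refl_inj hQ hv hw h) ?_
  rintro _ ⟨v, hv, rfl⟩
  exact ⟨v, hv, rfl⟩

/-- With a swap the dimension is a multiple of four and the class is that of the hyperbolic form. -/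
theorem card_of_swap (hn : 3 ≤ Fintype.card ι) {v} (hv : Swap (EM ⇑Q) v) :
    ∃ k, Fintype.card ι = 4 * k ∧ 2 * (EM ⇑Q).ncard + 2 ^ (2 * k) = 2 ^ (4 * k) ∧
      2 ^ (k * (2 * k - 1) + k * (k - 1)) ≤ {v | Swap (EM ⇑Q) v}.ncard := by
  classical
  have hv' : Tot (oEquiv Q v) := (swap_iff hQ hn).1 (by rw [← image_EM hQ]; exact (swap_image _).2 hv)
  have hn' : 3 ≤ Module.finrank (ZMod 2) (ι → ZMod 2) := by rwa [Module.finrank_pi]
  obtain ⟨k, y, hk, hy⟩ := exists_adapted hQ hn' hv'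
  refine ⟨k, by rwa [Module.finrank_pi] at hk, ?_, ?_⟩
  swap
  · rw [ncard_swap_EM hQ hn]; exact le_ncard_tot hQ hn' hv' hk
  have hH : HypFam Q y _ := hy
  have hcard : 2 * Fintype.card (Fin k ⊕ Fin k) = Module.finrank (ZMod 2) (ι → ZMod 2) := by
    rw [Fintype.card_sum, Fintype.card_fin]; omega
  have hE : (EM ⇑Q).ncard = {v : ι → ZMod 2 | Q v ≠ 0}.ncard := by
    rw [← Set.ncard_image_of_injective _ (oEquiv Q).injective, image_EM hQ, ncard_E2 hQ]
  let κ := Fin k ⊕ Fin k
  set T := Finset.univ.filter fun p : (κ → ZMod 2) × (κ → ZMod 2) => p.1 ⬝ᵥ p.2 = 1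
  have hT : {v : ι → ZMod 2 | Q v ≠ 0}.ncard = T.card := by
    rw [← Set.ncard_coe_finset]
    symm
    refine Set.ncard_congr (fun p _ => vec y (fun s => nn (oEquiv Q v) (y s.swap)) p.1 p.2) (fun p hp => ?_)
      (fun p q _ _ h => Prod.ext (hH.vec_inj h).1 (hH.vec_inj h).2) (fun z hz => ?_)
    · have hp' : p.1 ⬝ᵥ p.2 = 1 := (Finset.mem_filter.1 hp).2
      show Q _ ≠ 0
      rw [hH.norm_vec, show ∑ s, p.1 s * p.2 s = 1 from hp']
      exact one_ne_zero
    · refine ⟨(_, _), Finset.mem_filter.2 ⟨Finset.mem_univ _, ?_⟩, (hH.expand hQ hcard z).symm⟩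
      refine eq_one_of_ne_zero _ fun h0 => hz ?_
      rw [hH.expand hQ hcard z, hH.norm_vec]
      exact h0
  rw [hE, hT]
  have hκ : Fintype.card κ = 2 * k := by simp [κ]; omega
  have hfib : ∀ a : κ → ZMod 2, 2 * (Finset.univ.filter fun b => a ⬝ᵥ b = 1).card =
      if a = 0 then 0 else 2 ^ (2 * k) := by
    intro a
    split
    · rename_i h
      subst h
      simp
    rename_i h
    obtain ⟨s, hs⟩ := Function.ne_iff.1 h
    have hs' := eq_one_of_ne_zero _ hs
    have hflip : (Finset.univ.filter fun b => a ⬝ᵥ b = 1).card = (Finset.univ.filter fun b => ¬ a ⬝ᵥ b = 1).card := by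
      refine Finset.card_equiv (Equiv.addRight (Pi.single s 1)) fun b => ?_
      simp only [Finset.mem_filter, Finset.mem_univ, true_and, Equiv.coe_addRight, dotProduct_add,
        dotProduct_single, hs', mul_one]
      generalize a ⬝ᵥ b = t
      exact flip_one t
    have := Finset.card_filter_add_card_filter_not (s := (Finset.univ : Finset (κ → ZMod 2))) (fun b => a ⬝ᵥ b = 1)
    rw [← hflip, Finset.card_univ, Fintype.card_fun, ZMod.card, hκ] at this
    omega
  have hsum : T.card = ∑ a : κ → ZMod 2, (Finset.univ.filter fun b => a ⬝ᵥ b = 1).card := by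
    simp only [T, Finset.card_filter, ← Finset.univ_product_univ, Finset.sum_product]
  rw [hsum, Finset.mul_sum, Finset.sum_congr rfl (fun a _ => hfib a), Finset.sum_ite, Finset.sum_const_zero, zero_add,
    Finset.sum_const, smul_eq_mul, Finset.filter_ne' Finset.univ, Finset.card_erase_of_mem (Finset.mem_univ _),
    Finset.card_univ, Fintype.card_fun, ZMod.card, hκ, Nat.sub_one_mul, Nat.sub_add_cancel
      (Nat.le_mul_of_pos_left _ (by positivity)), ← pow_add]
  congr 1
  omega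

end CfsgLib.ThreeTrans.Fischer.Disconnected.Two
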