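import Cfsg.Agent.Lib.ThreeTrans.Classification.Disconnected.Transport
import Cfsg.Agent.Lib.ThreeTrans.SympSection.Adapter
import Cfsg.Agent.Lib.ThreeTrans.UnitaryTransTwo
import Cfsg.Agent.Lib.Classical.Unitary.Order

/-!
Classes without swaps: transpositions, symplectic and unitary transvections (owner: helper4).
-/

set_option autoImplicit false
set_option linter.unusedSectionVars false
set_option linter.style.haveILetI false

namespace CfsgLib.ThreeTrans.Fischer.Disconnected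

open Cfsg CfsgLib.Classical CfsgLib.Classical.Symp CfsgLib.Classical.Herm

universe u

theorem add_zero_two : ∀ a b : ZMod 2, a + b = 0 → a = b := by decide

/-- A swap pairs off the members. -/
theorem Swap.even_ncard {H : Type u} [Group H] [Finite H] {E : Set H} (hE : ∀ g : H, ∀ x ∈ E, g * x * g⁻¹ ∈ E)
    {v : H} (hv : Swap E v) : Even E.ncard := by
  classical
  letI := Fintype.ofFinite H
  have h2 : ∑ x ∈ E.toFinset, (1 : ZMod 2) = 0 := by
    refine Finset.sum_involution (fun x _ => v * x * v) (fun _ _ => by decide)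
      (fun x hx _ => (hv.2.2 x (Set.mem_toFinset.1 hx)).1) (fun x hx => ?_) (fun x _ => ?_)
    · have := hE v x (Set.mem_toFinset.1 hx)
      rw [inv_eq_of_mul_eq_one_right hv.1] at this
      exact Set.mem_toFinset.2 this
    · simp only [← mul_assoc, hv.1, one_mul]
      rw [mul_assoc, hv.1, mul_one]
  rw [Finset.sum_const, nsmul_one, ← Set.ncard_eq_toFinset_card'] at h2
  exact ZMod.natCast_eq_zero_iff_even.1 h2

theorem no_swap_sym {n : ℕ} {v : Equiv.Perm (Fin n)} (hv : Swap {σ : Equiv.Perm (Fin n) | σ.IsSwap} v) : False := by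
  obtain ⟨a, ha⟩ : ∃ a, v a ≠ a := by
    by_contra h
    push Not at h
    exact hv.2.1 (Equiv.ext h)
  refine hv.not_commute (x := Equiv.swap a (v a)) ⟨a, v a, Ne.symm ha, rfl⟩ ?_
  have hvv : v (v a) = a := by
    have := congrArg (fun σ : Equiv.Perm (Fin n) => σ a) hv.1
    simpa using this
  show v * Equiv.swap a (v a) = Equiv.swap a (v a) * v
  rw [Equiv.mul_swap_eq_swap_mul, hvv, Equiv.swap_comm]

theorem no_swap_sp {m : ℕ} {v : Matrix.symplecticGroup (Fin m) (ZMod 2)}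
    (hv : Swap {g : Matrix.symplecticGroup (Fin m) (ZMod 2) |
      ((g : Matrix (Fin m ⊕ Fin m) (Fin m ⊕ Fin m) (ZMod 2)) - 1).rank = 1} v) : False := by
  set e := symplecticEquiv m (ZMod 2)
  set g := e v with hg
  have hA := sympBil_isAlt m (ZMod 2)
  have h1 : g * g = 1 := by rw [hg, ← map_mul, hv.1, map_one]
  obtain ⟨x, hx⟩ : ∃ x, (g : (Fin m ⊕ Fin m → ZMod 2) ≃ₗ[ZMod 2] (Fin m ⊕ Fin m → ZMod 2)) x ≠ x := by
    by_contra h
    push Not at h
    refine hv.2.1 (e.injective ?_)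
    rw [map_one]
    exact Subtype.ext (LinearEquiv.ext h)
  set w := (g : (Fin m ⊕ Fin m → ZMod 2) ≃ₗ[ZMod 2] (Fin m ⊕ Fin m → ZMod 2)) x + x with hw
  have hgg : (g : (Fin m ⊕ Fin m → ZMod 2) ≃ₗ[ZMod 2] (Fin m ⊕ Fin m → ZMod 2))
      ((g : (Fin m ⊕ Fin m → ZMod 2) ≃ₗ[ZMod 2] (Fin m ⊕ Fin m → ZMod 2)) x) = x :=
    congrArg (fun t : Symp.Sp (sympBil m (ZMod 2)) =>
      (t : (Fin m ⊕ Fin m → ZMod 2) ≃ₗ[ZMod 2] (Fin m ⊕ Fin m → ZMod 2)) x) h1
  have hgw : (g : (Fin m ⊕ Fin m → ZMod 2) ≃ₗ[ZMod 2] (Fin m ⊕ Fin m → ZMod 2)) w = w := by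
    rw [hw, map_add, hgg, add_comm]
  have hw0 : w ≠ 0 := fun h => hx (by
    funext i
    have hi : (g : (Fin m ⊕ Fin m → ZMod 2) ≃ₗ[ZMod 2] (Fin m ⊕ Fin m → ZMod 2)) x i + x i = 0 := congrFun h i
    generalize (g : (Fin m ⊕ Fin m → ZMod 2) ≃ₗ[ZMod 2] (Fin m ⊕ Fin m → ZMod 2)) x i = a at hi ⊢
    revert hi
    generalize x i = b
    exact add_zero_two a b)
  refine hv.not_commute (x := e.symm (Symp.tr hA w 1)) ((SympSection.rank_one_iff _).2 ⟨w, hw0, e.apply_symm_apply _⟩) ?_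
  have := Symp.conj_tr hA g w 1
  rw [hgw, mul_inv_eq_iff_eq_mul] at this
  exact e.injective (by rw [map_mul, map_mul, MulEquiv.apply_symm_apply]; exact this)

theorem no_swap_unit {n : ℕ} (hn : 4 ≤ n) {F : Type} [Field F] [Fintype F] (hF4 : Fintype.card F = 4)
    {v : Cfsg.PSU n F 2} (hv : Swap ((QuotientGroup.mk : ↥(Cfsg.SU n F 2) → Cfsg.PSU n F 2) ''
      {g : ↥(Cfsg.SU n F 2) | (((g : Matrix.SpecialLinearGroup (Fin n) F) : Matrix (Fin n) (Fin n) F) - 1).rank = 1}) v) :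
    False := by
  have hF : Fintype.card F = 2 ^ 2 := by rw [hF4]; norm_num
  have h := hermStd_isHerm (n := n) hF
  obtain ⟨r, rfl⟩ := QuotientGroup.mk_surjective v
  set e := suEquiv n hF
  -- a lift which is an involution
  have hz : e (r * r) ∈ Subgroup.center (HSU (hermStd n hF)) := by
    have : r * r ∈ Subgroup.center _ := by
      rw [← QuotientGroup.eq_one_iff, QuotientGroup.mk_mul]; exact hv.1
    exact Subgroup.mem_center_iff.2 fun y => by
      obtain ⟨y, rfl⟩ := e.surjective y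
      rw [← map_mul, ← map_mul, Subgroup.mem_center_iff.1 this y]
  obtain ⟨a, ha⟩ := (h.mem_center_HSU_iff (by rw [finrank_std]; omega)).1 hz
  have ha3 : a ^ 3 = 1 := by
    have : a ≠ 0 := fun h0 => by
      have h2 := ha (fun _ => 1)
      rw [h0, zero_smul, LinearEquiv.map_eq_zero_iff] at h2
      exact one_ne_zero (congrFun h2 ⟨0, by omega⟩)
    have h3 := FiniteField.pow_card_sub_one_eq_one a this
    rwa [hF4] at h3
  have hz3 : (r * r) ^ 3 = 1 := by
    refine e.injective (Subtype.ext (Subtype.ext (LinearEquiv.ext fun y => ?_)))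
    rw [map_one, map_pow, pow_succ, pow_two]
    show ((e (r * r) : HU (hermStd n hF)) : (Fin n → F) ≃ₗ[F] (Fin n → F))
      (((e (r * r) : HU (hermStd n hF)) : (Fin n → F) ≃ₗ[F] (Fin n → F))
      (((e (r * r) : HU (hermStd n hF)) : (Fin n → F) ≃ₗ[F] (Fin n → F)) y)) = y
    rw [ha, ha, ha, smul_smul, smul_smul, show a * a * a = 1 by rw [← ha3]; ring, one_smul]
  set s := r * (r * r) with hs
  have hs2 : s * s = 1 := by
    rw [hs, ← hz3]
    simp only [pow_succ, pow_zero, one_mul, mul_assoc]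
  have hsv : (QuotientGroup.mk s : Cfsg.PSU n F 2) = QuotientGroup.mk r := by
    rw [hs, QuotientGroup.mk_mul, QuotientGroup.mk_mul, hv.1, mul_one]
  set g : HU (hermStd n hF) := (e s : HU (hermStd n hF)) with hg
  have hgg : ∀ y, (g : (Fin n → F) ≃ₗ[F] (Fin n → F)) ((g : (Fin n → F) ≃ₗ[F] (Fin n → F)) y) = y := fun y => by
    have := congrArg (fun t => (((e t : HSU (hermStd n hF)) : HU (hermStd n hF)) : (Fin n → F) ≃ₗ[F] (Fin n → F)) y) hs2
    simpa [hg] using this
  obtain ⟨x, hx⟩ : ∃ x, (g : (Fin n → F) ≃ₗ[F] (Fin n → F)) x ≠ x := by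
    by_contra hall
    push Not at hall
    refine hv.2.1 ?_
    rw [← hsv, show s = 1 from e.injective (by rw [map_one]; exact Subtype.ext (Subtype.ext (LinearEquiv.ext hall)))]
    rfl
  have h2 := UnitaryTransTwo.two_zero hF
  set w := (g : (Fin n → F) ≃ₗ[F] (Fin n → F)) x + x with hw
  have hsym : hermStd n hF ((g : (Fin n → F) ≃ₗ[F] (Fin n → F)) x) x =
      hermStd n hF x ((g : (Fin n → F) ≃ₗ[F] (Fin n → F)) x) := by
    have := HU.map_eq g x ((g : (Fin n → F) ≃ₗ[F] (Fin n → F)) x)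
    rwa [hgg] at this
  have hww : hermStd n hF w w = 0 := by
    simp only [hw, map_add, LinearMap.add_apply, HU.map_eq, hsym]
    linear_combination (hermStd n hF x x + hermStd n hF x ((g : (Fin n → F) ≃ₗ[F] (Fin n → F)) x)) * h2
  have hgw : (g : (Fin n → F) ≃ₗ[F] (Fin n → F)) w = w := by rw [hw, map_add, hgg, add_comm]
  have hw0 : w ≠ 0 := fun h0 => hx (by
    have hxx : x + x = 0 := by rw [← two_smul F, h2, zero_smul]
    exact add_right_cancel (h0.trans hxx.symm))
  set t : HSU (hermStd n hF) := ⟨UnitaryTransTwo.t hF hww, h.det_tr hww _⟩ with ht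
  refine hv.not_commute (x := QuotientGroup.mk (e.symm t)) ⟨e.symm t, ?_, rfl⟩ ?_
  · refine UnitaryTransTwo.rank_t hF hww hw0 fun y => ?_
    rw [← suEquiv_apply hF, MulEquiv.apply_symm_apply]
  · rw [← hsv]
    refine Commute.map ?_ (QuotientGroup.mk' _)
    refine e.injective (Subtype.ext ?_)
    have := UnitaryTransTwo.t_conj hF g hww
    simp only [hgw] at this
    have h3 := mul_inv_eq_iff_eq_mul.1 this
    rw [map_mul e s, map_mul e (e.symm t) s, MulEquiv.apply_symm_apply]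
    exact h3

end CfsgLib.ThreeTrans.Fischer.Disconnected
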