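import Cfsg.Agent.Lib.ThreeTrans.Classification.Disconnected.Count
import Cfsg.Agent.Lib.ThreeTrans.Classification.Disconnected.Small
import Cfsg.Agent.Lib.ThreeTrans.Classification.Disconnected.Orth2
import Cfsg.Agent.Lib.ThreeTrans.Classification.Disconnected.Identify3
import Cfsg.Agent.Lib.ThreeTrans.Classification.Five
import Cfsg.Agent.Lib.Classical.Quad.StandardForms
import Cfsg.Agent.S5398
import Cfsg.Agent.S5400

/-!
A disconnected commuting graph with trivial cores: only the two triality groups (owner: helper4).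
-/

set_option autoImplicit false
set_option linter.style.haveILetI false

namespace CfsgLib.ThreeTrans.Fischer.Disconnected

open Cfsg RankThree CfsgLib.Classical.Quad

universe u

/-- The derived groups of isomorphic groups are isomorphic. -/
theorem nonempty_commutatorEquiv {H K : Type*} [Group H] [Group K] (e : H ≃* K) :
    Nonempty (↥(commutator H) ≃* ↥(commutator K)) := by
  have h : (commutator H).map e.toMonoidHom = commutator K := by
    rw [commutator_def, commutator_def, Subgroup.map_commutator, Subgroup.map_top_of_surjective _ e.surjective]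
  exact ⟨(e.subgroupMap _).trans (MulEquiv.subgroupCongr h)⟩

theorem no_swap_prod {H : Type u} [Group H] {E : Set H} {v : H} (hv : Swap E v) {l : List H}
    (hne : l ≠ []) (hl : ∀ a ∈ l, a ∈ E) (hc : ∀ a ∈ l, ∀ b ∈ l, Commute a b) (he : l.prod = v) : False := by
  obtain ⟨a, t, rfl⟩ := List.exists_cons_of_ne_nil hne
  have ha : a ∈ a :: t := List.mem_cons_self
  exact hv.not_commute (hl a ha) (he ▸ (Commute.list_prod_right _ _ fun b hb => hc a ha b hb).symm)



theorem centralCores_of_tup {H : Type u} [Group H] [Finite H] {E : Set H} (S : Setting E)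
    (hZ : Subgroup.center H = ⊥) (hP : ¬ Polar.Pol E) (hcard : E.ncard ≠ 10) {d : H} (hd : d ∈ E) :
    CentralCores E d := by
  by_contra h
  have h1 := (fiveStatement H E S hZ hP d hd h).2.1.card
  exact hcard h1

theorem no_swap_m22 {H : Type u} [Group H] [Finite H] {E : Set H} (S : Setting E) (hZ : Subgroup.center H = ⊥)
    (hM : IsOfTypeM22 H E) (ht : HasTup E (Fam.m22).tup) (hP : ¬ Polar.Pol E) {v : H} (hv : Swap E v) : False := by
  obtain ⟨d, hd, -⟩ := S.nontriv
  obtain ⟨h3, h2⟩ := centralCores_of_tup S hZ hP (by rw [ht.card]; decide) hd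
  obtain ⟨m, hm, -, l, -, hlen, hmem, hc, he⟩ := (Cfsg.Agent.S5398.result (group_of_class S.cls) S.prim d hd h3 h2 hM).1 v
    (orderOf_eq_prime (by rw [pow_two, hv.1]) hv.2.1)
  exact no_swap_prod hv (by rintro rfl; simp at hlen; omega) hmem hc he

theorem no_swap_m24 {H : Type u} [Group H] [Finite H] {E : Set H} (S : Setting E) (hZ : Subgroup.center H = ⊥)
    (hM : IsOfTypeM24 H E) (ht : HasTup E (Fam.m24).tup) (hP : ¬ Polar.Pol E) {v : H} (hv : Swap E v) : False := by
  obtain ⟨d, hd, -⟩ := S.nontriv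
  obtain ⟨h3, h2⟩ := centralCores_of_tup S hZ hP (by rw [ht.card]; decide) hd
  obtain ⟨m, hm, -, l, -, hlen, hmem, hc, he⟩ := (Cfsg.Agent.S5400.result (group_of_class S.cls) S.prim d hd h3 h2 hM).1 v
    (orderOf_eq_prime (by rw [pow_two, hv.1]) hv.2.1)
  exact no_swap_prod hv (by rintro rfl; simp at hlen; omega) hmem hc he

/-! ### Arithmetic -/

theorem aniso_two : ∀ z₁ z₂ : ZMod 2, z₁ ^ 2 + 1 * z₁ * z₂ + 1 * z₂ ^ 2 = 0 → z₁ = 0 ∧ z₂ = 0 := by decide

theorem orth_bound {k : ℕ} (hk : 3 ≤ k) :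
    (2 ^ (2 * (2 * k) - 1) - 2 ^ (2 * k - 1)) * (4 ^ (2 * k - 1) - 1) < 2 ^ (k * (2 * k - 1) + k * (k - 1)) := by
  have hpos : 0 < 4 ^ (2 * k - 1) := by positivity
  have hpos2 : 0 < 2 ^ (2 * (2 * k) - 1) := by positivity
  calc (2 ^ (2 * (2 * k) - 1) - 2 ^ (2 * k - 1)) * (4 ^ (2 * k - 1) - 1)
      ≤ 2 ^ (2 * (2 * k) - 1) * (4 ^ (2 * k - 1) - 1) := Nat.mul_le_mul_right _ (Nat.sub_le _ _)
    _ < 2 ^ (2 * (2 * k) - 1) * 4 ^ (2 * k - 1) := Nat.mul_lt_mul_of_pos_left (Nat.sub_lt hpos one_pos) hpos2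
    _ ≤ 2 ^ (k * (2 * k - 1) + k * (k - 1)) := by
      rw [show (4 : ℕ) = 2 ^ 2 from rfl, ← pow_mul, ← pow_add]
      refine Nat.pow_le_pow_right two_pos ?_
      obtain ⟨j, rfl⟩ := Nat.exists_eq_add_of_le hk
      have h1 : 2 * (3 + j) - 1 = 5 + 2 * j := by omega
      have h2 : 3 + j - 1 = 2 + j := by omega
      rw [show 2 * (2 * (3 + j)) - 1 = 11 + 4 * j by omega, h1, h2]
      nlinarith

theorem hp_le (m : ℕ) (b : Bool) : hp m b ≤ 3 ^ m := by
  have : 0 < 3 ^ m := by positivity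
  unfold hp
  split <;> omega

theorem vR_even_le {k : ℕ} (hk : 1 ≤ k) (δ : Bool) : vR (2 * k) δ ≤ 3 ^ (2 * k - 1) := by
  rw [vR, if_neg (by omega), show 2 * k / 2 = k by omega, show 2 * k - 1 = (k - 1) + k by omega, pow_add]
  exact Nat.mul_le_mul_left _ (hp_le _ _)

theorem vR_odd_le {k : ℕ} (hk : 1 ≤ k) (δ : Bool) : vR (2 * k - 1) δ ≤ 3 ^ (2 * k - 2) := by
  rw [vR, if_pos (by omega), show (2 * k - 1) / 2 = k - 1 by omega, show 2 * k - 2 = (k - 1) + (k - 1) by omega, pow_add]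
  exact Nat.mul_le_mul_left _ (hp_le _ _)

theorem pp_big : ∀ k : ℕ, 5 ≤ k → 2 * 3 ^ (4 * k - 3) < Three.pp k := by
  intro k hk
  induction k, hk using Nat.le_induction with
  | base =>
    have h1 := Three.le_pp_succ 4 (by norm_num)
    have h2 := Three.le_pp_succ 3 (by norm_num)
    rw [Three.pp_three] at h2
    norm_num at h1 h2 ⊢
    omega
  | succ k hk ih =>
    have h1 := Three.le_pp_succ k (by omega)
    have h2 : 3 ^ 4 ≤ 3 ^ (2 * k - 1) := Nat.pow_le_pow_right (by norm_num) (by omega)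
    rw [show 4 * (k + 1) - 3 = 4 + (4 * k - 3) by omega, pow_add]
    calc 2 * (3 ^ 4 * 3 ^ (4 * k - 3)) = 3 ^ 4 * (2 * 3 ^ (4 * k - 3)) := by ring
      _ < 3 ^ 4 * Three.pp k := Nat.mul_lt_mul_of_pos_left ih (by norm_num)
      _ ≤ 3 ^ (2 * k - 1) * Three.pp k := Nat.mul_le_mul_right _ h2
      _ ≤ _ := h1

theorem six_bound (δ : Bool) : 1080 < vR 6 δ * vR (6 - 1) (down 6 δ) := by
  cases δ <;> decide

/-! ### The statement -/

section Cases

variable {G : Type u} [Group G] [Finite G] {D : Set G} {L : Subgroup G}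

/-- The conclusion. -/
def Conclusion (L : Subgroup G) [L.Normal] : Prop :=
  Nonempty (G ⧸ L ≃* Equiv.Perm (Fin 3)) ∧
    (Nonempty (L ≃* Omega (ZMod 2) (quadFormPlus 4 (ZMod 2))) ∨
      Nonempty (L ≃* POmega (ZMod 3) (quadFormPlus 4 (ZMod 3))))

theorem oPlus_case (C : Ctx D L) [L.Normal] {d : G} (hd : d ∈ D) {m : ℕ} (hm : 4 ≤ m)
    (hM : (Fam.oPlus m).Model _ (fibreIn D L d)) (ht : HasTup (fibreIn D L d) (Fam.oPlus m).tup)
    {v} (hv : Swap (fibreIn D L d) v) : Conclusion L := by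
  have hM' := hM
  simp only [Fam.Model] at hM'
  rw [← coe_qPlus] at hM'
  obtain ⟨e₀, -⟩ := hM
  obtain ⟨e, he⟩ := hM'
  haveI : Fact (Nat.Prime 2) := ⟨Nat.prime_two⟩
  have hn : 3 ≤ Fintype.card (Fin m ⊕ Fin m) := by simp; omega
  have hQ := qPlus_nondeg (F := ZMod 2) m
  have hE : e '' fibreIn D L d = Two.EM ⇑(qPlus m (ZMod 2)) := he
  have htr : SwapTrans (fibreIn D L d) := swapTrans_image e (hE ▸ Two.swapTrans hQ hn)
  obtain ⟨k, hk, -, hlow⟩ := Two.card_of_swap hQ hn (v := e v) (hE ▸ (swap_image e).2 hv)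
  have hmk : m = 2 * k := by simp at hk; omega
  rcases (show k = 2 ∨ 3 ≤ k by omega) with rfl | hk3
  · refine ⟨C.quotient_sym3 hd htr, Or.inl ?_⟩
    obtain ⟨φ⟩ := C.nonempty_equiv hd
    subst hmk
    obtain ⟨ψ⟩ := nonempty_commutatorEquiv e₀
    exact ⟨φ.trans ψ⟩
  · exfalso
    subst hmk
    have h1 := C.ncard_swap_le hd ht.valency htr
    rw [ht.card, ← ncard_swap_image e, hE] at h1
    have h2 := orth_bound hk3
    exact absurd (hlow.trans h1) (not_le.2 h2)

theorem oMinus_case {H : Type u} [Group H] [Finite H] {E : Set H} {m : ℕ} (hm : 3 ≤ m)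
    (hM : (Fam.oMinus m).Model H E) (ht : HasTup E (Fam.oMinus m).tup) {v : H} (hv : Swap E v) : False := by
  simp only [Fam.Model] at hM
  rw [← coe_qMinus] at hM
  obtain ⟨e, he⟩ := hM
  haveI : Fact (Nat.Prime 2) := ⟨Nat.prime_two⟩
  have hn : 3 ≤ Fintype.card ((Fin (m - 1) ⊕ Fin (m - 1)) ⊕ Fin 2) := by simp; omega
  have hQ := qMinus_nondeg (F := ZMod 2) (a := 1) (b := 1) aniso_two (m - 1)
  have hE : e '' E = Two.EM ⇑(qMinus (m - 1) (ZMod 2) 1 1) := he
  obtain ⟨k, hk, hcount, -⟩ := Two.card_of_swap hQ hn (v := e v) (hE ▸ (swap_image e).2 hv)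
  rw [← hE, Set.ncard_image_of_injective _ e.injective, ht.card] at hcount
  have hmk : m = 2 * k := by simp at hk; omega
  subst hmk
  simp only [Fam.tup] at hcount
  rw [Nat.mul_add, ← pow_succ', ← pow_succ', show 2 * (2 * k) - 1 + 1 = 4 * k by omega,
    show 2 * k - 1 + 1 = 2 * k by omega] at hcount
  have : 0 < 2 ^ (2 * k) := by positivity
  omega

theorem refl_case (C : Ctx D L) [L.Normal] {d : G} (hd : d ∈ D) {N : ℕ} {δ : Bool} (hN : 6 ≤ N)
    (hM : (Fam.refl N δ).Model _ (fibreIn D L d)) (ht : HasTup (fibreIn D L d) (Fam.refl N δ).tup)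
    {v} (hv : Swap (fibreIn D L d) v) : Conclusion L := by
  obtain ⟨Q, hQ, c, hc, -, e, he⟩ := hM
  haveI : Fact (Nat.Prime 3) := ⟨Nat.prime_three⟩
  have hE : e '' fibreIn D L d = Three.EQ Q c := he
  have hv' : Swap (Three.EQ Q c) (e v) := hE ▸ (swap_image e).2 hv
  have htr : SwapTrans (fibreIn D L d) := swapTrans_image e (hE ▸ Three.swapTrans hQ hc (by omega))
  obtain ⟨r, -, hr⟩ := Three.swap_lift hQ hc (by omega) hv'
  obtain ⟨k, -, hnk, -⟩ := Three.exists_frame hQ hc hr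
  rw [Module.finrank_pi, Fintype.card_fin] at hnk
  have hsw := Three.two_mul_ncard_swap hQ hc (by omega) hv' hnk
  rw [← hE, ncard_swap_image e] at hsw
  rcases (show k = 3 ∨ k = 4 ∨ 5 ≤ k by omega) with rfl | rfl | hk
  · exfalso
    have h1 := C.le_ncard_swap hd ht.valency (pairsInj_image e (hE ▸ Three.pairsInj hQ hc (by omega)))
    subst hnk
    have h2 := six_bound δ
    rw [ht.card, hsw, Three.pp_three] at h1
    exact absurd h1 (not_le.2 h2)
  · refine ⟨C.quotient_sym3 hd htr, Or.inr ?_⟩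
    subst hnk
    haveI := C.simple
    obtain ⟨φ⟩ := C.nonempty_equiv hd
    obtain ⟨ψ⟩ := nonempty_commutatorEquiv e
    exact Three.nonempty_pomega hQ hc hv' (φ.trans ψ)
  · exfalso
    subst hnk
    have h1 := C.ncard_swap_le hd ht.valency htr
    rw [ht.card] at h1
    have h2 : vR (2 * k) δ * vR (2 * k - 1) (down (2 * k) δ) ≤ 3 ^ (4 * k - 3) := by
      refine (Nat.mul_le_mul (vR_even_le (by omega) δ) (vR_odd_le (by omega) _)).trans ?_
      rw [← pow_add]
      exact Nat.pow_le_pow_right (by norm_num) (by omega)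
    have h3 := pp_big k hk
    simp only [Fam.tup] at h1
    omega

end Cases

end CfsgLib.ThreeTrans.Fischer.Disconnected

namespace CfsgLib.ThreeTrans.Fischer

open Cfsg RankThree Disconnected

universe u

/-- Slice DISC. -/
theorem disconnectedStatement : DisconnectedStatement.{u} := by
  intro G _ _ D hD hZ h2 h3 hdisc hmain F _ hF
  obtain ⟨L, C, hFL⟩ := exists_ctx hD hZ h2 h3 hdisc
  rw [hFL] at hF
  subst hF
  show Disconnected.Conclusion F
  obtain ⟨d, hd, -⟩ := hD.2.1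
  have S := C.setting hd
  have hZH := C.center_eq_bot d
  obtain ⟨f, hok, hM, ht, -, hpol⟩ := hmain _ (fibreIn D F d) S hZH
  obtain ⟨y, -, -, w, -, hw, hv⟩ := C.exists_swap hd
  cases f with
  | sym n =>
    obtain ⟨e, he⟩ := hM
    exact (no_swap_sym (he ▸ (swap_image e).2 hv)).elim
  | sp m =>
    obtain ⟨e, he⟩ := hM
    exact (no_swap_sp (he ▸ (swap_image e).2 hv)).elim
  | unit n =>
    obtain ⟨K, _, _, hK, e, he⟩ := hM
    exact (no_swap_unit hok hK (he ▸ (swap_image e).2 hv)).elim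
  | oPlus m => exact oPlus_case C hd hok hM ht hv
  | oMinus m => exact (oMinus_case hok hM ht hv).elim
  | refl N δ => exact refl_case C hd hok hM ht hv
  | m22 => exact (no_swap_m22 S hZH hM ht (fun h => (hpol.2 h).elim) hv).elim
  | m23 =>
    have h := hv.even_ncard fun g x hx => class_conj S.cls g x hx
    rw [ht.card] at h
    exact absurd h (by decide)
  | m24 => exact (no_swap_m24 S hZH hM ht (fun h => (hpol.2 h).elim) hv).elim

end CfsgLib.ThreeTrans.Fischer
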