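import Cfsg.Agent.Lib.ThreeTrans.Classification.Disconnected.Complex3
import Cfsg.Agent.Lib.ThreeTrans.Classification.Disconnected.Transport
import Cfsg.Agent.Lib.ThreeTrans.ReflectionsF3Prim

/-!
The swaps of the reflection class modulo the centre over the field with three elements: they come from
the isometries squaring to `-1`, form one class, and their number (owner: helper4).
-/

set_option autoImplicit false
set_option linter.unusedSectionVars false
set_option linter.style.haveILetI false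

namespace CfsgLib.ThreeTrans.Fischer.Disconnected.Three

open CfsgLib.Classical CfsgLib.Classical.Quad CfsgLib.ThreeTrans.ReflectionsF3
open QuadraticMap (polar polarBilin)

theorem sign_cases : ∀ t : ZMod 3, t ≠ 0 → t = 1 ∨ t = -1 := by decide

theorem two_add_two : (2 : ZMod 3) + 2 = 1 := by decide

theorem neg_one_ne : (-1 : ZMod 3) ≠ 0 := by decide

theorem mul_two_mul : ∀ c : ZMod 3, c ≠ 0 → c * (2 * c) = 2 := by decide

theorem pm_sq : ∀ t : ZMod 3, (t = 1 ∨ t = -1) → t * t = 1 := by decide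

theorem pm_ne : ∀ t : ZMod 3, (t = 1 ∨ t = -1) → t ≠ 0 := by decide

theorem sum_sq_cases : ∀ s t : ZMod 3, s * s + t * t = 1 →
    (t = 0 ∧ (s = 1 ∨ s = -1)) ∨ (s = 0 ∧ (t = 1 ∨ t = -1)) := by decide

theorem inv_self [Fact (Nat.Prime 3)] (t : ZMod 3) : t⁻¹ = t := by
  rcases ReflectionsF3.z3_cases t with rfl | rfl | rfl <;> simp

variable [Fact (Nat.Prime 3)] {n : ℕ} {Q : QuadraticForm (ZMod 3) (Fin n → ZMod 3)} {c : ZMod 3}
  (hQ : (polarBilin Q).Nondegenerate) (hc : c ≠ 0) (hn : 5 ≤ n)

/-- The group modulo its centre. -/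
abbrev RQ (Q : QuadraticForm (ZMod 3) (Fin n → ZMod 3)) (c : ZMod 3) : Type :=
  ↥(Cfsg.reflectionSubgroup (⇑Q) c) ⧸ Subgroup.center ↥(Cfsg.reflectionSubgroup (⇑Q) c)

/-- The class of reflections modulo the centre. -/
def EQ (Q : QuadraticForm (ZMod 3) (Fin n → ZMod 3)) (c : ZMod 3) : Set (RQ Q c) :=
  (QuotientGroup.mk : ↥(Cfsg.reflectionSubgroup (⇑Q) c) → RQ Q c) ''
    {g : ↥(Cfsg.reflectionSubgroup (⇑Q) c) |
      (g : ↥(Cfsg.isometryGroup (ZMod 3) (⇑Q))) ∈ Cfsg.reflectionsOfNorm (⇑Q) c}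

theorem ap_mul (g h : OQ Q) (x : Fin n → ZMod 3) : ap (g * h) x = ap g (ap h x) := rfl

theorem ap_one (x : Fin n → ZMod 3) : ap (1 : OQ Q) x = x := rfl

theorem ap_inv_ap (g : OQ Q) (x : Fin n → ZMod 3) : ap g⁻¹ (ap g x) = x := by
  rw [← ap_mul, inv_mul_cancel, ap_one]

include hQ hc in
theorem exists_norm_pair {w : Fin n → ZMod 3} (hw : w ≠ 0) (hn : 5 ≤ n) :
    ∃ a, Q a = c ∧ polar Q w a ≠ 0 := by
  by_cases h0 : Q w = 0
  · obtain ⟨y, hy⟩ : ∃ y, polar Q w y ≠ 0 := by
      by_contra hall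
      push Not at hall
      exact hw (eq_zero_of_polar hQ hall)
    obtain ⟨z, hz⟩ := solve_linear (polar Q w y) (Q y) c hy
    refine ⟨z • w + y, by rw [apply_add, apply_smul, h0, polar_smul_left', ← hz]; ring, ?_⟩
    rwa [polar_add_right', polar_smul_right', polar_self', h0, mul_zero, mul_zero, zero_add]
  rcases norm_cases (Q w) c h0 hc with h | h
  · exact ⟨w, h, by rw [polar_self', h]; exact mul_ne_zero two_ne hc⟩
  · obtain ⟨e, he, hwe⟩ := exists_perp_of_le (Q := Q) hQ (P := Submodule.span (ZMod 3) {w}) hn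
      (fun x hx hxy => by
        obtain ⟨t, rfl⟩ := Submodule.mem_span_singleton.1 hx
        have := hxy w (Submodule.mem_span_singleton_self w)
        rw [polar_smul_left', polar_self'] at this
        simp [two_ne, h0] at this
        rw [this, zero_smul])
      ((finrank_span_singleton hw).le.trans (by norm_num)) (d := Q w) h0
    have hp := hwe w (Submodule.mem_span_singleton_self w)
    refine ⟨w + e, by rw [apply_add, he, hp, add_zero, h], ?_⟩
    rw [polar_add_right', hp, add_zero, polar_self']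
    exact mul_ne_zero two_ne h0

include hQ hc in
theorem scalar_of_norm (hn : 5 ≤ n) {g : OQ Q} (h : ∀ a, Q a = c → ap g a = a ∨ ap g a = -a) :
    (∀ x, ap g x = x) ∨ ∀ x, ap g x = -x := by
  have h2 : (2 : ZMod 3) ≠ 0 := two_ne
  have hsame : ∀ a b, Q a = c → Q b = c → polar Q a b ≠ 0 → (ap g a = a ↔ ap g b = b) := by
    intro a b ha hb hab
    have key : ∀ a b, Q a = c → Q b = c → polar Q a b ≠ 0 → ap g a = a → ap g b = b := by
      intro a b ha hb hab hga
      refine (h b hb).resolve_right fun hgb => hab ?_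
      have := OQ.map_polar g a b
      rw [show (g : (Fin n → ZMod 3) ≃ₗ[ZMod 3] (Fin n → ZMod 3)) a = a from hga, show (g : (Fin n → ZMod 3) ≃ₗ[ZMod 3] (Fin n → ZMod 3)) b = -b from hgb,
        QuadraticMap.polar_neg_right] at this
      exact (mul_eq_zero.1 (show (2 : ZMod 3) * polar Q a b = 0 by linear_combination -this)).resolve_left h2
    exact ⟨key a b ha hb hab, key b a hb ha (by rwa [QuadraticMap.polar_comm])⟩
  have hall : ∀ a b, Q a = c → Q b = c → (ap g a = a ↔ ap g b = b) := by
    intro a b ha hb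
    by_cases hab : polar Q a b = 0
    · obtain ⟨e, he, hperp⟩ := exists_perp_of_le (Q := Q) hQ (P := Submodule.span (ZMod 3) ({a, b, b} : Set _)) hn
        (fun x hx hxy => by
          obtain ⟨s, t, u, rfl⟩ := Submodule.mem_span_triple.1 hx
          have e0 := hxy a (Submodule.subset_span (by simp))
          have e1 := hxy b (Submodule.subset_span (by simp))
          simp only [polar_add_left', polar_smul_left', polar_self', ha, hb, hab,
            QuadraticMap.polar_comm (⇑Q) b a, mul_zero, add_zero, zero_add] at e0 e1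
          rw [← add_mul] at e1
          simp [hc, h2] at e0 e1
          rw [e0, zero_smul, zero_add, ← add_smul, e1, zero_smul])
        (finrank_triple a b b) (d := 2 * c) (mul_ne_zero h2 hc)
      have hae := hperp a (Submodule.subset_span (by simp))
      have hbe := hperp b (Submodule.subset_span (by simp))
      have hy : Q (a + b + e) = c := by
        rw [apply_add, apply_add, ha, hb, he, hab, polar_add_left', hae, hbe]
        linear_combination c * three_zero
      refine (hsame a _ ha hy ?_).trans (hsame b _ hb hy ?_).symm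
      · rw [polar_add_right', polar_add_right', polar_self', hab, hae, ha, add_zero, add_zero]
        exact mul_ne_zero h2 hc
      · rw [polar_add_right', polar_add_right', polar_self', QuadraticMap.polar_comm (⇑Q) b a, hab, hbe, hb,
          add_zero, zero_add]
        exact mul_ne_zero h2 hc
    · exact hsame a b ha hb hab
  have hext : ∀ t : ZMod 3, (t = 1 ∨ t = -1) → (∀ a, Q a = c → ap g a = t • a) → ∀ x, ap g x = t • x := by
    intro t ht hta x
    by_contra hne
    obtain ⟨a, ha, hp⟩ := exists_norm_pair hQ hc (sub_ne_zero.2 hne) hn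
    refine hp ?_
    have h1 := OQ.map_polar g x a
    rw [show (g : (Fin n → ZMod 3) ≃ₗ[ZMod 3] (Fin n → ZMod 3)) a = t • a from hta a ha, polar_smul_right'] at h1
    rw [QuadraticMap.polar_sub_left, polar_smul_left', ← h1]
    rcases ht with rfl | rfl <;> ring
  obtain ⟨a₀, ha₀⟩ := CfsgLib.Classical.Quad.exists_apply_eq hQ (by rw [Module.finrank_pi, Fintype.card_fin]; omega) hc
  by_cases hg0 : ap g a₀ = a₀
  · refine Or.inl fun x => ?_
    rw [hext 1 (Or.inl rfl) (fun a ha => by rw [one_smul]; exact (hall a₀ a ha₀ ha).1 hg0) x, one_smul]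
  · refine Or.inr fun x => ?_
    rw [hext (-1) (Or.inr rfl) (fun a ha => by
      rw [neg_one_smul]
      exact (h a ha).resolve_left fun h' => hg0 ((hall a₀ a ha₀ ha).2 h')) x, neg_one_smul]

include hc in
theorem refl_inj {v w : Fin n → ZMod 3} (hv : Q v = c) (hw : Q w = c)
    (h : refl (Q := Q) (v := v) (by rw [hv]; exact hc) = refl (v := w) (by rw [hw]; exact hc)) :
    w = v ∨ w = -v := by
  have h1 := congrArg (fun g : OQ Q => ap g w) h
  simp only [ap, refl_apply, hv, hw, inv_self, polar_self'] at h1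
  have hc2 : c * (2 * c) = 2 := mul_two_mul c hc
  rw [hc2, two_smul] at h1
  set p := polar Q w v
  have h3 : w + w = (c * p) • v := by
    rw [sub_eq_sub_iff_add_eq_add] at h1
    have : w + (w + w) = w + (c * p) • v := h1
    exact add_left_cancel this
  have h4 : w = (2 * (c * p)) • v := by
    rw [two_mul, add_smul, ← h3, ← two_smul (ZMod 3) w, ← add_smul,
      two_add_two, one_smul]
  have hp : 2 * (c * p) ≠ 0 := fun h0 => by
    rw [h0, zero_smul] at h4
    exact hc (by rw [← hw, h4, QuadraticMap.map_zero])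
  rcases sign_cases _ hp with h5 | h5 <;> rw [h5] at h4
  · left; rwa [one_smul] at h4
  · right; rwa [neg_one_smul] at h4

include hQ hc in
theorem center_iff (hn : 5 ≤ n) {z : ↥(Cfsg.reflectionSubgroup (⇑Q) c)} :
    z ∈ Subgroup.center ↥(Cfsg.reflectionSubgroup (⇑Q) c) ↔
      (∀ x, ap (toOQ z) x = x) ∨ ∀ x, ap (toOQ z) x = -x := by
  constructor
  · intro hz
    refine scalar_of_norm hQ hc hn fun a ha => ?_
    have h1 := Subgroup.mem_center_iff.1 hz (elt hc ha)
    have h2 : toOQ z * toOQ (elt hc ha) * (toOQ z)⁻¹ = toOQ (elt hc ha) := by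
      rw [← map_mul, ← h1, map_mul, mul_inv_cancel_right]
    rw [toOQ_elt, refl_conj] at h2
    exact refl_inj hc ha ((OQ.map_apply (toOQ z) a).trans ha) h2.symm
  · intro hz
    refine Subgroup.mem_center_iff.2 fun g => toOQ_injective (Subtype.ext (LinearEquiv.ext fun x => ?_))
    rw [map_mul, map_mul]
    show ap (toOQ g) (ap (toOQ z) x) = ap (toOQ z) (ap (toOQ g) x)
    rcases hz with h | h
    · rw [h, h]
    · rw [h, h]; exact map_neg (toOQ g : (Fin n → ZMod 3) ≃ₗ[ZMod 3] (Fin n → ZMod 3)) x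

include hQ hc in
theorem mk_eq_iff (hn : 5 ≤ n) {r r' : ↥(Cfsg.reflectionSubgroup (⇑Q) c)} :
    (QuotientGroup.mk r : RQ Q c) = QuotientGroup.mk r' ↔
      (∀ x, ap (toOQ r') x = ap (toOQ r) x) ∨ ∀ x, ap (toOQ r') x = -ap (toOQ r) x := by
  have e : ∀ x, ap (toOQ (r' * r⁻¹)) (ap (toOQ r) x) = ap (toOQ r') x := fun x => by
    rw [map_mul, map_inv, ap_mul, ap_inv_ap]
  have hs : ∀ y, ∃ x, ap (toOQ r) x = y := fun y => ⟨ap (toOQ r)⁻¹ y, by rw [← ap_mul, mul_inv_cancel, ap_one]⟩
  constructor
  · intro h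
    have hz : r' * r⁻¹ ∈ Subgroup.center ↥(Cfsg.reflectionSubgroup (⇑Q) c) := by
      rw [← QuotientGroup.eq_one_iff, QuotientGroup.mk_mul, QuotientGroup.mk_inv, h, mul_inv_cancel]
    rcases (center_iff hQ hc hn).1 hz with hz | hz
    · exact Or.inl fun x => by rw [← e, hz]
    · exact Or.inr fun x => by rw [← e, hz]
  · intro h
    have hz : r' * r⁻¹ ∈ Subgroup.center ↥(Cfsg.reflectionSubgroup (⇑Q) c) := by
      refine (center_iff hQ hc hn).2 ?_
      rcases h with h | h
      · refine Or.inl fun y => ?_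
        obtain ⟨x, rfl⟩ := hs y
        rw [e, h]
      · refine Or.inr fun y => ?_
        obtain ⟨x, rfl⟩ := hs y
        rw [e, h]
    have := (QuotientGroup.eq_one_iff _).2 hz
    rw [QuotientGroup.mk_mul, QuotientGroup.mk_inv] at this
    exact (mul_inv_eq_one.1 this).symm

include hc in
theorem mem_EQ {x : RQ Q c} : x ∈ EQ Q c ↔ ∃ (v : Fin n → ZMod 3) (hv : Q v = c), QuotientGroup.mk (elt hc hv) = x := by
  constructor
  · rintro ⟨g, hg, rfl⟩
    obtain ⟨v, hv, rfl⟩ := exists_elt hc hg
    exact ⟨v, hv, rfl⟩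
  · rintro ⟨v, hv, rfl⟩
    exact ⟨_, elt_mem hc hv, rfl⟩

include hQ hc in
theorem mk_elt_inj (hn : 5 ≤ n) {v w : Fin n → ZMod 3} (hv : Q v = c) (hw : Q w = c)
    (h : (QuotientGroup.mk (elt hc hv) : RQ Q c) = QuotientGroup.mk (elt hc hw)) : w = v ∨ w = -v := by
  rcases (mk_eq_iff hQ hc hn).1 h with h | h
  · refine refl_inj hc hv hw (Subtype.ext (LinearEquiv.ext fun x => ?_))
    have := h x
    rw [toOQ_elt, toOQ_elt] at this
    exact this.symm
  · exfalso
    obtain ⟨y, hy, hvy, hwy⟩ := exists_perp_norm hc hQ hn hv hw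
    have := h y
    rw [toOQ_elt, toOQ_elt] at this
    simp only [ap, refl_apply, QuadraticMap.polar_comm (⇑Q) y, hvy, hwy, mul_zero, zero_smul, sub_zero] at this
    refine mul_ne_zero two_ne hc ?_
    have h2 : (2 : ZMod 3) • y = 0 := by rw [two_smul]; exact eq_neg_iff_add_eq_zero.1 this
    rw [smul_eq_zero] at h2
    rw [← hy, h2.resolve_left two_ne, QuadraticMap.map_zero, mul_zero]

include hQ hc in
theorem conj_mk_elt (_hn : 5 ≤ n) (r : ↥(Cfsg.reflectionSubgroup (⇑Q) c)) {a : Fin n → ZMod 3} (ha : Q a = c) :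
    ∃ hb : Q (ap (toOQ r) a) = c, (QuotientGroup.mk r : RQ Q c) * QuotientGroup.mk (elt hc ha) *
      (QuotientGroup.mk r)⁻¹ = QuotientGroup.mk (elt hc hb) := by
  refine ⟨(OQ.map_apply _ a).trans ha, ?_⟩
  rw [← QuotientGroup.mk_inv, ← QuotientGroup.mk_mul, ← QuotientGroup.mk_mul]
  refine congrArg _ (toOQ_injective ?_)
  rw [map_mul, map_mul, map_inv, toOQ_elt, toOQ_elt, refl_conj]

include hQ hc in
theorem polar_of_commute (hn : 5 ≤ n) {v w : Fin n → ZMod 3} (hv : Q v = c) (hw : Q w = c)
    (h : Commute (QuotientGroup.mk (elt hc hv) : RQ Q c) (QuotientGroup.mk (elt hc hw))) :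
    polar Q v w = 0 ∨ w = v ∨ w = -v := by
  obtain ⟨hb, e⟩ := conj_mk_elt hQ hc hn (elt hc hv) hw
  rw [h.eq, mul_inv_cancel_right] at e
  rcases mk_elt_inj hQ hc hn hw hb e with h1 | h1
  · left
    rw [toOQ_elt] at h1
    simp only [ap, refl_apply, sub_eq_self] at h1
    rw [smul_eq_zero] at h1
    rcases h1 with h1 | h1
    · rw [mul_eq_zero] at h1
      rw [QuadraticMap.polar_comm]
      exact h1.resolve_left (inv_ne_zero (by rw [hv]; exact hc))
    · exact absurd (by rw [← hv, h1, QuadraticMap.map_zero]) hc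
  · right
    rw [toOQ_elt] at h1
    simp only [ap, refl_apply] at h1
    set s := (Q v)⁻¹ * polar Q w v
    have h4 : w = (2 * s) • v := by
      have h3 : w + w = s • v := by
        have : w - s • v + w = 0 := by rw [h1, neg_add_cancel]
        rw [sub_add_eq_add_sub, sub_eq_zero] at this
        exact this
      rw [two_mul, add_smul, ← h3, ← two_smul (ZMod 3) w, ← add_smul,
        two_add_two, one_smul]
    have hp : 2 * s ≠ 0 := fun h0 => by
      rw [h0, zero_smul] at h4
      exact hc (by rw [← hw, h4, QuadraticMap.map_zero])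
    rcases sign_cases _ hp with h5 | h5 <;> rw [h5] at h4
    · left; rwa [one_smul] at h4
    · right; rwa [neg_one_smul] at h4

theorem no_involution {g : OQ Q} (hQ : (polarBilin Q).Nondegenerate) (hc : c ≠ 0) (hn : 5 ≤ n)
    (hinv : ∀ x, ap g (ap g x) = x) (hperp : ∀ a, Q a = c → polar Q a (ap g a) = 0) : False := by
  have h2 : (2 : ZMod 3) ≠ 0 := two_ne
  have hh : ∀ t, 2 * c * t = 0 → t = 0 := fun t h => (mul_eq_zero.1 h).resolve_left (mul_ne_zero h2 hc)
  obtain ⟨a, ha⟩ := CfsgLib.Classical.Quad.exists_apply_eq hQ (by rw [Module.finrank_pi, Fintype.card_fin]; omega) hc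
  set b := ap g a with hbdef
  have hb : Q b = c := (OQ.map_apply g a).trans ha
  have hab : polar Q a b = 0 := hperp a ha
  have hba : ap g b = a := hinv a
  obtain ⟨e1, he1, hp1⟩ := exists_perp_of_le (Q := Q) hQ (P := Submodule.span (ZMod 3) ({a, b, b} : Set _)) hn
    (fun x hx hxy => by
      obtain ⟨s, t, u, rfl⟩ := Submodule.mem_span_triple.1 hx
      have f0 := hxy a (Submodule.subset_span (by simp))
      have f1 := hxy b (Submodule.subset_span (by simp))
      simp only [polar_add_left', polar_smul_left', polar_self', ha, hb, hab,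
        QuadraticMap.polar_comm (⇑Q) b a, mul_zero, add_zero, zero_add] at f0 f1
      rw [← add_mul] at f1
      have g0 : s = 0 := hh s (by linear_combination f0)
      have g1 : t + u = 0 := hh _ (by linear_combination f1)
      rw [g0, zero_smul, zero_add, ← add_smul, g1, zero_smul])
    (finrank_triple a b b) hc
  have hae1 := hp1 a (Submodule.subset_span (by simp))
  have hbe1 := hp1 b (Submodule.subset_span (by simp))
  obtain ⟨e2, he2, hp2⟩ := exists_perp_of_le (Q := Q) hQ (P := Submodule.span (ZMod 3) ({a, b, e1} : Set _)) hn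
    (fun x hx hxy => by
      obtain ⟨s, t, u, rfl⟩ := Submodule.mem_span_triple.1 hx
      have f0 := hxy a (Submodule.subset_span (by simp))
      have f1 := hxy b (Submodule.subset_span (by simp))
      have f2 := hxy e1 (Submodule.subset_span (by simp))
      simp only [polar_add_left', polar_smul_left', polar_self', ha, hb, he1, hab, hae1, hbe1,
        QuadraticMap.polar_comm (⇑Q) b a, QuadraticMap.polar_comm (⇑Q) e1 a, QuadraticMap.polar_comm (⇑Q) e1 b,
        mul_zero, add_zero, zero_add] at f0 f1 f2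
      rw [hh s (by linear_combination f0), hh t (by linear_combination f1), hh u (by linear_combination f2)]
      simp)
    (finrank_triple a b e1) hc
  have hae2 := hp2 a (Submodule.subset_span (by simp))
  have hbe2 := hp2 b (Submodule.subset_span (by simp))
  have hee := hp2 e1 (Submodule.subset_span (by simp))
  have hsymm : polar Q e2 (ap g e1) = polar Q e1 (ap g e2) := by
    rw [← OQ.map_polar g e2 (ap g e1), show (g : (Fin n → ZMod 3) ≃ₗ[ZMod 3] (Fin n → ZMod 3)) (ap g e1) = e1 from hinv e1,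
      QuadraticMap.polar_comm]
  have key : ∀ t : ZMod 3, (t = 1 ∨ t = -1) → c + t * (2 * polar Q e1 (ap g e2)) = 0 := by
    intro t ht
    have htt : t * t = 1 := pm_sq t ht
    have hsum : Q (a + b + (e1 + t • e2)) = c := by
      rw [apply_add, apply_add, apply_add, apply_smul, ha, hb, he1, he2, hab, polar_smul_right', hee,
        polar_add_left', polar_add_right', polar_add_right', polar_smul_right', polar_smul_right', hae1, hbe1, hae2, hbe2]
      linear_combination c * three_zero + c * htt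
    have hf := hperp _ hsum
    have hge : ∀ x, polar Q a (ap g x) = polar Q b x := fun x => by
      rw [← OQ.map_polar g a (ap g x), show (g : (Fin n → ZMod 3) ≃ₗ[ZMod 3] (Fin n → ZMod 3)) (ap g x) = x from hinv x]
    have hge' : ∀ x, polar Q b (ap g x) = polar Q a x := fun x => by
      rw [← OQ.map_polar g b (ap g x), show (g : (Fin n → ZMod 3) ≃ₗ[ZMod 3] (Fin n → ZMod 3)) (ap g x) = x from hinv x,
        show (g : (Fin n → ZMod 3) ≃ₗ[ZMod 3] (Fin n → ZMod 3)) b = a from hba]
    have f1 := hperp e1 he1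
    have f2 := hperp e2 he2
    simp only [ap, map_add, map_smul] at hf
    rw [show (g : (Fin n → ZMod 3) ≃ₗ[ZMod 3] (Fin n → ZMod 3)) a = b from rfl, show (g : (Fin n → ZMod 3) ≃ₗ[ZMod 3] (Fin n → ZMod 3)) b = a from hba] at hf
    simp only [polar_add_left', polar_add_right', polar_smul_left', polar_smul_right', polar_self', ha, hb, hab,
      QuadraticMap.polar_comm (⇑Q) b a, QuadraticMap.polar_comm (⇑Q) e1 a, QuadraticMap.polar_comm (⇑Q) e1 b,
      QuadraticMap.polar_comm (⇑Q) e2 a, QuadraticMap.polar_comm (⇑Q) e2 b] at hf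
    change polar Q e1 (ap g e1) = 0 at f1
    simp only [ap] at hge hge' f1 f2 hsymm ⊢
    simp only [hge, hge', hae1, hbe1, hae2, hbe2, f1, f2, hsymm] at hf
    linear_combination hf - c * three_zero
  have k1 := key 1 (Or.inl rfl)
  have k2 := key (-1) (Or.inr rfl)
  exact hc (mul_left_cancel₀ h2 (by linear_combination k1 + k2))

include hQ hc hn in
/-- A swap lifts to an isometry squaring to `-1`. -/
theorem swap_lift {v : RQ Q c} (hv : Swap (EQ Q c) v) :
    ∃ r, QuotientGroup.mk r = v ∧ Cx (toOQ (Q := Q) (c := c) r) := by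
  obtain ⟨r, rfl⟩ := QuotientGroup.mk_surjective v
  refine ⟨r, rfl, ?_⟩
  have hinv : (QuotientGroup.mk r : RQ Q c)⁻¹ = QuotientGroup.mk r := inv_eq_of_mul_eq_one_right hv.1
  have hperp : ∀ a, Q a = c → polar Q a (ap (toOQ r) a) = 0 := by
    intro a ha
    obtain ⟨hb, e⟩ := conj_mk_elt hQ hc hn r ha
    rw [hinv] at e
    obtain ⟨h1, h2⟩ := hv.2.2 _ ((mem_EQ hc).2 ⟨a, ha, rfl⟩)
    rw [e] at h1 h2
    rcases polar_of_commute hQ hc hn ha hb h2 with h | h
    · exact h
    · exfalso
      refine h1 ((mk_eq_iff hQ hc hn).2 (Or.inl fun x => ?_))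
      rcases h with h | h
      · simp only [toOQ_elt, h]
      · rw [elt_eq hc ha hb (t := -1) neg_one_ne (by rw [neg_one_smul]; exact h)]
  have hsq : r * r ∈ Subgroup.center ↥(Cfsg.reflectionSubgroup (⇑Q) c) := by
    rw [← QuotientGroup.eq_one_iff, QuotientGroup.mk_mul]; exact hv.1
  rcases (center_iff hQ hc hn).1 hsq with h | h
  · exact (no_involution hQ hc hn (fun x => by rw [← ap_mul, ← map_mul]; exact h x) hperp).elim
  · exact fun x => by rw [← ap_mul, ← map_mul]; exact h x

include hQ hc hn in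
theorem swap_of_cx {r : ↥(Cfsg.reflectionSubgroup (⇑Q) c)} (hr : Cx (toOQ r)) :
    Swap (EQ Q c) (QuotientGroup.mk r) := by
  have hsq : (QuotientGroup.mk r : RQ Q c) * QuotientGroup.mk r = 1 := by
    rw [← QuotientGroup.mk_mul, QuotientGroup.eq_one_iff, center_iff hQ hc hn]
    exact Or.inr fun x => by rw [map_mul, ap_mul]; exact hr x
  refine ⟨hsq, fun h => ?_, ?_⟩
  · have hz := (center_iff hQ hc hn).1 ((QuotientGroup.eq_one_iff r).1 h)
    obtain ⟨a, ha⟩ := CfsgLib.Classical.Quad.exists_apply_eq hQ (by rw [Module.finrank_pi, Fintype.card_fin]; omega) hc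
    have hp := hr.perp a
    rcases hz with hz | hz <;>
      rw [hz a] at hp <;>
      simp [polar_self', ha, two_ne, hc] at hp
  · intro x hx
    obtain ⟨a, ha, rfl⟩ := (mem_EQ hc).1 hx
    obtain ⟨hb, e⟩ := conj_mk_elt hQ hc hn r ha
    rw [inv_eq_of_mul_eq_one_right hsq] at e
    rw [e]
    refine ⟨fun h => ?_, ?_⟩
    · have hp := hr.perp a
      rcases mk_elt_inj hQ hc hn ha hb h.symm with h' | h' <;>
        rw [h'] at hp <;>
        simp [polar_self', ha, two_ne, hc] at hp
    · rw [← show ∀ g h : ↥(Cfsg.reflectionSubgroup (⇑Q) c), (QuotientGroup.mk (g * h) : RQ Q c) = _ from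
        QuotientGroup.mk_mul (N := Subgroup.center _)] at *
      exact (show Commute (elt hc ha) (elt hc hb) from commute_elt hc ha hb (hr.perp a)).map
        (QuotientGroup.mk' _)

include hc in
theorem toOQ_range : (toOQ (Q := Q) (c := c)).range = classReflGroup Q c := by
  ext g
  constructor
  · rintro ⟨r, rfl⟩
    have := r.2
    have h' := (SetLike.ext_iff.1 (reflectionSubgroup_eq Q hc) _).1 this
    exact h'
  · intro hg
    refine ⟨⟨(oEquiv Q).symm g, ?_⟩, MulEquiv.apply_symm_apply (oEquiv Q) g⟩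
    refine (SetLike.ext_iff.1 (reflectionSubgroup_eq Q hc) _).2 ?_
    show oEquiv Q ((oEquiv Q).symm g) ∈ classReflGroup Q c
    rwa [MulEquiv.apply_symm_apply]

include hc in
/-- Two expressions of a rotation of a plane. -/
theorem turn_eq {v w : Fin n → ZMod 3} (hv : Q v = -c) (hw : Q w = -c) (hvw : polar Q v w = 0)
    {a₁ w₁ a₂ w₂ : Fin n → ZMod 3} (ha₁ : Q a₁ ≠ 0) (hw₁ : Q w₁ ≠ 0) (ha₂ : Q a₂ ≠ 0) (hw₂ : Q w₂ ≠ 0)
    (e₁ : a₁ = v + w) (f₁ : w₁ = w) (e₂ : a₂ = w - v) (f₂ : w₂ = -v) :
    (Quad.refl ha₁ * Quad.refl hw₁ : OQ Q) = Quad.refl ha₂ * Quad.refl hw₂ := by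
  subst a₁ w₁ a₂ w₂
  refine Subtype.ext (LinearEquiv.ext fun z => ?_)
  show ap (Quad.refl ha₁) (ap (Quad.refl hw₁) z) = ap (Quad.refl ha₂) (ap (Quad.refl hw₂) z)
  have hwv : polar Q w v = 0 := by rw [QuadraticMap.polar_comm]; exact hvw
  have hn' : Q (-v) = -c := by rw [QuadraticMap.map_neg]; exact hv
  have hc2 : c * (2 * c) = 2 := mul_two_mul c hc
  have hA : Q (v + w) = c := by rw [apply_add, hv, hw, hvw]; linear_combination -c * three_zero
  have hB : Q (w - v) = c := by
    rw [sub_eq_add_neg, apply_add, hw, hn', QuadraticMap.polar_neg_right, hwv]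
    linear_combination -c * three_zero
  simp only [ap, refl_apply, hA, hB, hw, hn', inv_self, QuadraticMap.polar_neg_right, mul_neg, neg_neg, smul_neg,
    neg_mul, neg_smul, sub_neg_eq_add]
  set p := polar Q z v
  set q := polar Q z w
  have s1 : polar Q (z + (c * q) • w) (v + w) = p - q := by
    simp only [polar_add_left', polar_add_right', polar_smul_left', polar_self', hw, hwv, p, q]
    linear_combination -(polar Q z w) * hc2
  have s2 : polar Q (z + (c * p) • v) (w - v) = q + p := by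
    simp only [polar_add_left', QuadraticMap.polar_sub_right, polar_smul_left', polar_self', hv, hvw, p, q]
    linear_combination (polar Q z v) * hc2
  rw [s1, s2]
  match_scalars <;>
    first
    | ring1
    | linear_combination -(c * p) * three_zero
    | linear_combination (c * q) * three_zero

include hQ hc hn in
/-- The centraliser of such an isometry covers the quotient by the reflections of one norm. -/
theorem exists_turn {g : OQ Q} (hg : Cx g) :
    ∃ g1 : OQ Q, g1 * g = g * g1 ∧ g1 ∉ classReflGroup Q c ∧ (classReflGroup Q c).index = 2 := by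
  have hidx : (classReflGroup Q c).index = 2 := by
    have := index_eq_two (Q := Q) hn hQ hc
    rwa [reflectionSubgroup_eq Q hc,
      Subgroup.index_comap_of_surjective _ (f := (oEquiv Q).toMonoidHom) (oEquiv Q).surjective] at this
  obtain ⟨v, hv, hvn⟩ : ∃ (v : Fin n → ZMod 3) (hv : Q v ≠ 0), Quad.refl hv ∉ classReflGroup Q c := by
    by_contra hall
    push Not at hall
    have htop := reflGroup_pi_eq_top hQ (hex_of_two_ne_zero two_ne)
    have : reflGroup Q ≤ classReflGroup Q c := by
      rw [reflGroup, Subgroup.closure_le]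
      rintro _ ⟨v, hv, rfl⟩
      exact hall v hv
    rw [htop, top_le_iff] at this
    rw [this, Subgroup.index_top] at hidx
    omega
  rcases norm_cases (Q v) c hv hc with h | h
  · exact absurd (refl_mem_class hv (by rw [h])) hvn
  set w := ap g v with hw
  have hQw : Q w = Q v := OQ.map_apply g v
  have hvw : polar Q v w = 0 := hg.perp v
  set a := v + w with ha'
  have ha : Q a = c := by rw [ha', apply_add, hQw, hvw, add_zero, h]
  have ha0 : Q a ≠ 0 := by rw [ha]; exact hc
  have hw0 : Q w ≠ 0 := by rw [hQw]; exact hv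
  haveI := classReflGroup_normal (Q := Q) c
  refine ⟨Quad.refl ha0 * Quad.refl hw0, ?_, fun hm => hvn ?_, hidx⟩
  · have hga : ap g a = w - v := by
      show (g : (Fin n → ZMod 3) ≃ₗ[ZMod 3] (Fin n → ZMod 3)) (v + w) = _
      rw [map_add, show (g : (Fin n → ZMod 3) ≃ₗ[ZMod 3] (Fin n → ZMod 3)) w = -v from hg v, ← sub_eq_add_neg]
    refine eq_mul_inv_iff_mul_eq.1 ?_
    rw [show g * (Quad.refl ha0 * Quad.refl hw0) * g⁻¹ = (g * Quad.refl ha0 * g⁻¹) * (g * Quad.refl hw0 * g⁻¹) by group, refl_conj, refl_conj]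
    have hq : Q v = -c := by linear_combination (-1 : ZMod 3) * h + Q v * three_zero
    exact turn_eq hc hq (hQw.trans hq) hvw _ _ _ _ rfl rfl hga (hg v)
  · have hwC : Quad.refl hw0 ∈ classReflGroup Q c := by
      have := (classReflGroup Q c).mul_mem (inv_mem (refl_mem_class (Q := Q) (c := c) ha0 (by rw [ha]))) hm
      rwa [inv_mul_cancel_left] at this
    have := (inferInstance : (classReflGroup Q c).Normal).conj_mem _ hwC g⁻¹
    rw [refl_conj] at this
    refine (?_ : Quad.refl hv = _) ▸ this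
    exact Subtype.ext (LinearEquiv.ext fun z => by
      rw [refl_apply, refl_apply]
      simp only [show ((g⁻¹ : OQ Q) : (Fin n → ZMod 3) ≃ₗ[ZMod 3] (Fin n → ZMod 3)) w = v from ap_inv_ap g v])

include hQ hc hn in
/-- All swaps are conjugate. -/
theorem swapTrans : SwapTrans (EQ Q c) := by
  intro v v' hv hv'
  obtain ⟨r, rfl, hr⟩ := swap_lift hQ hc hn hv
  obtain ⟨r', rfl, hr'⟩ := swap_lift hQ hc hn hv'
  obtain ⟨h, hh⟩ := Three.isConj hQ hc hr hr'
  obtain ⟨g1, hcomm, hg1, hidx⟩ := exists_turn hQ hc hn hr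
  obtain ⟨h', hh'C, hh'⟩ : ∃ h' ∈ classReflGroup Q c, h' * toOQ r * h'⁻¹ = toOQ r' := by
    by_cases hC : h ∈ classReflGroup Q c
    · exact ⟨h, hC, hh⟩
    · refine ⟨h * g1, (Subgroup.mul_mem_iff_of_index_two hidx).2 (iff_of_false hC hg1), ?_⟩
      rw [← hh, mul_assoc h, hcomm]; group
  rw [← toOQ_range hc] at hh'C
  obtain ⟨s, rfl⟩ := hh'C
  refine isConj_iff.2 ⟨QuotientGroup.mk s, ?_⟩
  rw [← QuotientGroup.mk_inv, ← QuotientGroup.mk_mul, ← QuotientGroup.mk_mul]
  exact congrArg _ (toOQ_injective (by rw [map_mul, map_mul, map_inv, hh']))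

include hQ hc hn in
theorem mem_range_of_cx {g₀ : ↥(Cfsg.reflectionSubgroup (⇑Q) c)} (h₀ : Cx (toOQ g₀)) {g : OQ Q} (hg : Cx g) :
    ∃ r, toOQ (Q := Q) (c := c) r = g := by
  obtain ⟨h, rfl⟩ := Three.isConj hQ hc h₀ hg
  haveI := classReflGroup_normal (Q := Q) c
  have hm : toOQ g₀ ∈ classReflGroup Q c := by rw [← toOQ_range hc]; exact ⟨g₀, rfl⟩
  have := (inferInstance : (classReflGroup Q c).Normal).conj_mem _ hm h
  rw [← toOQ_range hc] at this
  exact this

include hQ hc hn in
theorem two_mul_ncard_swap {v : RQ Q c} (hv : Swap (EQ Q c) v) {k : ℕ} (hk : n = 2 * k) :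
    2 * {w | Swap (EQ Q c) w}.ncard = pp k := by
  classical
  obtain ⟨r₀, -, hr₀⟩ := swap_lift hQ hc hn hv
  haveI : Finite (RQ Q c) := inferInstance
  letI := Fintype.ofFinite ↥(Cfsg.reflectionSubgroup (⇑Q) c)
  letI := Fintype.ofFinite (RQ Q c)
  let S := Finset.univ.filter fun r : ↥(Cfsg.reflectionSubgroup (⇑Q) c) => Cx (toOQ r)
  have hS : S.card = pp k := by
    rw [← ncard_cx hQ hc hr₀ (k := k) (by rw [Module.finrank_pi, Fintype.card_fin, hk]), ← Set.ncard_coe_finset,
      ← Set.ncard_image_of_injective _ toOQ_injective]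
    congr 1
    ext g
    simp only [Set.mem_image, Finset.coe_filter, Finset.mem_univ, true_and, S, Set.mem_ofPred_eq]
    constructor
    · rintro ⟨r, hr, rfl⟩; exact hr
    · intro hg
      obtain ⟨r, rfl⟩ := mem_range_of_cx hQ hc hn hr₀ hg
      exact ⟨r, hg, rfl⟩
  let T := Finset.univ.filter fun w : RQ Q c => Swap (EQ Q c) w
  have hT : {w | Swap (EQ Q c) w}.ncard = T.card := by
    rw [← Set.ncard_coe_finset]; congr 1; ext w; simp [T]
  have hmaps : ∀ r ∈ S, (QuotientGroup.mk r : RQ Q c) ∈ T := fun r hr =>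
    Finset.mem_filter.2 ⟨Finset.mem_univ _, swap_of_cx hQ hc hn (Finset.mem_filter.1 hr).2⟩
  rw [← hS, hT, Finset.card_eq_sum_card_fiberwise hmaps, Finset.sum_congr rfl (g := fun _ => 2) ?_,
    Finset.sum_const, smul_eq_mul, mul_comm]
  intro w hw
  obtain ⟨r, rfl, hr⟩ := swap_lift hQ hc hn (Finset.mem_filter.1 hw).2
  have hneg : ∀ x, ap (toOQ (r * (r * r))) x = -ap (toOQ r) x := fun x => by
    rw [map_mul, map_mul, ap_mul, ap_mul, hr]
  rw [show (S.filter fun r' => (QuotientGroup.mk r' : RQ Q c) = QuotientGroup.mk r) = {r, r * (r * r)} from ?_,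
    Finset.card_insert_of_notMem (Finset.notMem_singleton.2 fun e => ?_), Finset.card_singleton]
  · obtain ⟨a, ha⟩ := CfsgLib.Classical.Quad.exists_apply_eq hQ (by rw [Module.finrank_pi, Fintype.card_fin]; omega) hc
    have := hneg a
    rw [← e] at this
    have h2 : (2 : ZMod 3) • ap (toOQ r) a = 0 := by rw [two_smul]; exact eq_neg_iff_add_eq_zero.1 this
    rw [smul_eq_zero] at h2
    exact hc (by rw [← ha, ← OQ.map_apply (toOQ r) a, show (toOQ r : (Fin n → ZMod 3) ≃ₗ[ZMod 3] (Fin n → ZMod 3)) a = 0 from h2.resolve_left two_ne,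
      QuadraticMap.map_zero])
  ext r'
  simp only [S, Finset.mem_filter, Finset.mem_univ, true_and, Finset.mem_insert, Finset.mem_singleton]
  constructor
  · rintro ⟨-, h⟩
    rcases (mk_eq_iff hQ hc hn).1 h.symm with h | h
    · exact Or.inl (toOQ_injective (Subtype.ext (LinearEquiv.ext h)))
    · exact Or.inr (toOQ_injective (Subtype.ext (LinearEquiv.ext fun x => (h x).trans (hneg x).symm)))
  · rintro (rfl | rfl)
    · exact ⟨hr, rfl⟩
    · refine ⟨fun x => ?_, ((mk_eq_iff hQ hc hn).2 (Or.inr hneg)).symm⟩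
      rw [hneg, hneg, show ap (toOQ r) (-ap (toOQ r) x) = -ap (toOQ r) (ap (toOQ r) x) from map_neg _ _, neg_neg]
      exact hr x

include hQ hc hn in
theorem pairsInj : PairsInj (EQ Q c) := by
  intro x hx y hy z hz u hu hxy hcxy hzu hczu h
  obtain ⟨a, ha, rfl⟩ := (mem_EQ hc).1 hx
  obtain ⟨b, hb, rfl⟩ := (mem_EQ hc).1 hy
  obtain ⟨d, hd, rfl⟩ := (mem_EQ hc).1 hz
  obtain ⟨e, he, rfl⟩ := (mem_EQ hc).1 hu
  have hperp : ∀ {a b : Fin n → ZMod 3} (ha : Q a = c) (hb : Q b = c),
      (QuotientGroup.mk (elt hc ha) : RQ Q c) ≠ QuotientGroup.mk (elt hc hb) →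
      Commute (QuotientGroup.mk (elt hc ha) : RQ Q c) (QuotientGroup.mk (elt hc hb)) → polar Q a b = 0 := by
    intro a b ha hb hne hcom
    refine (polar_of_commute hQ hc hn ha hb hcom).resolve_right fun h' => hne ?_
    rcases h' with h' | h'
    · rw [elt_eq hc ha hb (t := 1) one_ne_zero (by rw [one_smul]; exact h')]
    · rw [elt_eq hc ha hb (t := -1) neg_one_ne (by rw [neg_one_smul]; exact h')]
  have hab := hperp ha hb hxy hcxy
  have hde := hperp hd he hzu hczu
  rw [← QuotientGroup.mk_mul, ← QuotientGroup.mk_mul, mk_eq_iff hQ hc hn] at h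
  simp only [map_mul, ap_mul, toOQ_elt, ap, refl_apply, ha, hb, hd, he, inv_self] at h
  obtain ⟨y, hy0, hya, hyb, hyd, hye⟩ : ∃ y : Fin n → ZMod 3, y ≠ 0 ∧
      polar Q y a = 0 ∧ polar Q y b = 0 ∧ polar Q y d = 0 ∧ polar Q y e = 0 := by
    classical
    let f : (Fin n → ZMod 3) →ₗ[ZMod 3] (Fin 4 → ZMod 3) :=
      LinearMap.pi ![(polarBilin Q).flip a, (polarBilin Q).flip b, (polarBilin Q).flip d, (polarBilin Q).flip e]
    have hker : LinearMap.ker f ≠ ⊥ := LinearMap.ker_ne_bot_of_finrank_lt (by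
      rw [Module.finrank_pi, Module.finrank_pi, Fintype.card_fin, Fintype.card_fin]; omega)
    obtain ⟨y, hy, hy0⟩ := Submodule.exists_mem_ne_zero_of_ne_bot hker
    have h4 := LinearMap.mem_ker.1 hy
    exact ⟨y, hy0, congrFun h4 0, congrFun h4 1, congrFun h4 2, congrFun h4 3⟩
  have hplus := h.resolve_right fun h' => hy0 (by
    have := h' y
    simp only [hya, hyb, hyd, hye, mul_zero, zero_smul, sub_zero] at this
    have h2 : (2 : ZMod 3) • y = 0 := by rw [two_smul]; exact eq_neg_iff_add_eq_zero.1 this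
    exact (smul_eq_zero.1 h2).resolve_left two_ne)
  have h2c : c * (2 * c) = 2 := mul_two_mul c hc
  have hd1 := hplus d
  have hed : polar Q e d = 0 := by rw [QuadraticMap.polar_comm]; exact hde
  simp only [hde, mul_zero, zero_smul, sub_zero, polar_self', hd, h2c, QuadraticMap.polar_sub_left,
    polar_smul_left', hab, QuadraticMap.polar_comm (⇑Q) b a, two_smul] at hd1
  have hlin : d = (2 * (c * polar Q d a)) • a + (2 * (c * polar Q d b)) • b := by
    have h3 : d + d = (c * polar Q d a) • a + (c * polar Q d b) • b := by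
      rw [sub_sub, sub_right_inj] at hd1
      rw [hd1, add_comm]
    rw [show ∀ s t : ZMod 3, (2 * s) • a + (2 * t) • b = (s • a + t • b) + (s • a + t • b) from
      fun s t => by rw [two_mul, two_mul, add_smul, add_smul]; abel, ← h3]
    have h4 : (2 : ZMod 3) + 2 = 1 := two_add_two
    rw [← two_smul (ZMod 3) d, ← add_smul, h4, one_smul]
  generalize 2 * (c * polar Q d a) = s at hlin
  generalize 2 * (c * polar Q d b) = t at hlin
  have hst : c * (s * s + t * t) = c := by
    conv_rhs => rw [← hd, hlin, apply_add, apply_smul, apply_smul, ha, hb, polar_smul_left', polar_smul_right', hab]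
    ring
  rcases sum_sq_cases s t (mul_left_cancel₀ hc (hst.trans (mul_one c).symm)) with ⟨rfl, hs⟩ | ⟨rfl, ht⟩
  · left
    rw [zero_smul, add_zero] at hlin
    rw [elt_eq hc ha hd (t := s) (pm_ne s hs) hlin]
  · right
    rw [zero_smul, zero_add] at hlin
    rw [elt_eq hc hb hd (t := t) (pm_ne t ht) hlin]

end CfsgLib.ThreeTrans.Fischer.Disconnected.Three
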